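import Cfsg.Agent.Uniqueness.TauTwoSylow
import Cfsg.Agent.Uniqueness.BetaPrime

/-!
Bender–Glauberman 12.5 (b), (d): `C_{M_σ}(A) = 1` for a plane `A` of `M`, `p ∈ τ₂(M)`; a line that
fixes part of `M_σ` has its normalizer in `M` alone.
-/

set_option autoImplicit false
set_option linter.style.haveILetI false

open scoped commutatorElement

namespace CfsgLib.Uniqueness

open Cfsg CfsgLib CfsgLib.Coprime CfsgLib.Signalizer

universe u

variable {G : Type u} [Group G] [Finite G] {p : ℕ} [hp : Fact p.Prime]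

/-- The elements of order dividing `p` of a Sylow subgroup of `M` are those of the plane in it. -/
theorem omega_of_tau2 (hG : IsMinSimpleOddOrder G) {M P A : Subgroup G} (hM : IsCoatom M)
    (hp2 : p ∈ tau2 M) (hP : IsPGroup p P) (hPM : P ≤ M) (hPf : ¬ p ∣ P.relIndex M)
    (hA : IsPlane p A) (hAP : A ≤ P) {x : G} (hx : x ∈ P) : x ^ p = 1 ↔ x ∈ A := by
  refine ⟨fun hxp => mem_of_maximal_elementary hA.elem (hA.maximal hG hM hp2 (hAP.trans hPM)) hxp
    fun a ha => ?_, hA.elem.2 x⟩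
  exact congrArg Subtype.val
    ((sylow_comm_of_tau2 hG hM hp2 hP hPM hPf).is_comm.comm (⟨a, hAP ha⟩ : P) ⟨x, hx⟩)

theorem normalizer_full_le_normalizer_plane (hG : IsMinSimpleOddOrder G) {M P A : Subgroup G}
    (hM : IsCoatom M) (hp2 : p ∈ tau2 M) (hP : IsPGroup p P) (hPM : P ≤ M)
    (hPf : ¬ p ∣ P.relIndex M) (hA : IsPlane p A) (hAP : A ≤ P) :
    Subgroup.normalizer (P : Set G) ≤ Subgroup.normalizer (A : Set G) := by
  refine le_normalizer_of_conj_mem fun g hg a ha => ?_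
  refine (omega_of_tau2 hG hM hp2 hP hPM hPf hA hAP
    ((Subgroup.mem_normalizer_iff.mp hg a).mp (hAP ha))).mp ?_
  rw [← MulAut.conj_apply, ← map_pow, hA.elem.2 a ha, map_one]

/-- `N(A)` is not contained in `M`. -/
theorem not_normalizer_plane_le (hG : IsMinSimpleOddOrder G) {M A : Subgroup G} (hM : IsCoatom M)
    (hp2 : p ∈ tau2 M) (hA : IsPlane p A) (hAM : A ≤ M) :
    ¬ Subgroup.normalizer (A : Set G) ≤ M := by
  intro h
  obtain ⟨P, hAP, hPM, hP, hPf⟩ := exists_full hAM hA.isPGroup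
  have h1 : p ∣ Nat.card A := hA.card ▸ dvd_pow_self p two_ne_zero
  exact hp2.2.1 (sigma_of_normalizer_le (h1.trans (Subgroup.card_dvd_of_le hAM)) hP hPM hPf
    ((normalizer_full_le_normalizer_plane hG hM hp2 hP hPM hPf hA hAP).trans h))

omit hp in
theorem exists_pGroup_inv {A W : Subgroup G} {r : ℕ} [Fact r.Prime] (hA : IsPGroup r A)
    (hAW : A ≤ Subgroup.normalizer (W : Set G)) (hrW : ¬ r ∣ Nat.card W) (hW : W ≠ ⊥) :
    ∃ (q : ℕ) (_ : Fact q.Prime) (Y : Subgroup G), IsPGroup q Y ∧ Y ≠ ⊥ ∧ Y ≤ W ∧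
      A ≤ Subgroup.normalizer (Y : Set G) := by
  haveI : Group.IsSolvable A := isSolvable_of_isPGroup hA
  obtain ⟨q, hq, hd⟩ := Nat.exists_prime_and_dvd (fun h => hW (Subgroup.card_eq_one.mp h))
  haveI := Fact.mk hq
  obtain ⟨S, hS⟩ := exists_invariant_sylow (p := q) hAW (coprime_of_isPGroup hA hrW)
    (Or.inl inferInstance)
  refine ⟨q, ⟨hq⟩, _, S.isPGroup'.map _, fun h => ?_, Subgroup.map_subtype_le _, hS⟩
  exact S.ne_bot_of_dvd_card hd ((Subgroup.map_eq_bot_iff_of_injective _ W.subtype_injective).mp h)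

/-- No prime of a maximal invariant subgroup without fixed points divides `|C(A)|`. -/
theorem not_dvd_centralizer_of_fixed_free (hG : IsMinSimpleOddOrder G) {A R : Subgroup G}
    (hA : IsPlane p A) (hmax : ∀ B : Subgroup G, IsElementaryAbelian p B → A ≤ B → B = A)
    {q : ℕ} [hq : Fact q.Prime] (hqp : q ≠ p) (hR : R ∈ maxInvSubgroups ⊤ A {q})
    (hRA : R ⊓ Subgroup.centralizer (A : Set G) = ⊥) :
    ¬ q ∣ Nat.card (Subgroup.centralizer (A : Set G)) := by
  intro hd
  obtain ⟨x, hx⟩ := exists_prime_orderOf_dvd_card' (G := Subgroup.centralizer (A : Set G)) q hd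
  have hxo : orderOf (x : G) = q := by rw [Subgroup.orderOf_coe, hx]
  obtain ⟨Q, hQ, hxQ⟩ := exists_maxInv hq.out
    (IsPGroup.of_card (n := 1) (by rw [Nat.card_zpowers, hxo, pow_one]) :
      IsPGroup q (Subgroup.zpowers (x : G)))
    (fun a ha => Subgroup.centralizer_le_normalizer _
      ((Subgroup.le_centralizer_iff.mp (Subgroup.zpowers_le.mpr x.2)) ha))
  obtain ⟨k, hk, hkeq⟩ := hA.conj_maxInv hG hmax hq.out hqp hd hR hQ
  have hkC := centCore_le_centralizer A A hk
  have h3 : k⁻¹ * (x : G) * k = 1 := Subgroup.mem_bot.mp (hRA.le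
    ⟨mem_map_conj_iff.mp (hkeq.le (hxQ (Subgroup.mem_zpowers _))),
      Subgroup.mul_mem _ (Subgroup.mul_mem _ (Subgroup.inv_mem _ hkC) x.2) hkC⟩)
  rw [show (x : G) = k * (k⁻¹ * (x : G) * k) * k⁻¹ by group, h3, mul_one, mul_inv_cancel,
    orderOf_one] at hxo
  exact hq.out.one_lt.ne hxo

/-- An invariant `q`-subgroup without fixed points is `[Y, A]`. -/
theorem le_commutator_of_fixed_free {A Y : Subgroup G} (hA : IsPlane p A) {q : ℕ} [Fact q.Prime]
    (hqp : q ≠ p) (hY : IsPGroup q Y) (hAY : A ≤ Subgroup.normalizer (Y : Set G))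
    (hYA : Y ⊓ Subgroup.centralizer (A : Set G) = ⊥) : Y ≤ ⁅Y, A⁆ := by
  haveI : Group.IsSolvable Y := isSolvable_of_isPGroup hY
  have h := eq_commutator_sup_centralizer hAY (coprime_of_isPGroup hA.isPGroup
    fun hd => hqp (eq_of_dvd_card_pGroup hY hp.out hd).symm) (Or.inr inferInstance)
  rw [hYA, sup_bot_eq] at h
  exact h.ge

omit hp in
theorem inf_eq_bot_of_not_dvd {Y C : Subgroup G} {q : ℕ} [Fact q.Prime] (hY : IsPGroup q Y)
    (h : ¬ q ∣ Nat.card C) : Y ⊓ C = ⊥ := Constrained.disjoint_of_isPGroup_of_not_dvd hY h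

/-- A line fixing a `q`-part of `M_σ` cannot have its normalizer in a maximal subgroup `L` with
`q ∉ σ(L)`. -/
theorem false_of_line (hG : IsMinSimpleOddOrder G) {M A : Subgroup G} (hM : IsCoatom M)
    (hp2 : p ∈ tau2 M) (hA : IsPlane p A) (hAM : A ≤ M) {q : ℕ} [hq : Fact q.Prime] (hqp : q ≠ p)
    {l : Subgroup G} (hl : l ≤ A) (hlc : Nat.card l = p) {Y : Subgroup G} (hY : IsPGroup q Y)
    (hY1 : Y ≠ ⊥) (hAY : A ≤ Subgroup.normalizer (Y : Set G))
    (hYl : Y ≤ Subgroup.centralizer (l : Set G))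
    (hqC : ¬ q ∣ Nat.card (Subgroup.centralizer (A : Set G))) {L : Subgroup G} (hL : IsCoatom L)
    (hNl : Subgroup.normalizer (l : Set G) ≤ L) (hqσ : q ∉ sigma L) : False := by
  have hmax := hA.maximal hG hM hp2 hAM
  have hAL : A ≤ L := (hA.le_normalizer_of_le hl).trans hNl
  have hYL : Y ≤ L := (hYl.trans (Subgroup.centralizer_le_normalizer _)).trans hNl
  have hYA : Y ⊓ Subgroup.centralizer (A : Set G) = ⊥ := inf_eq_bot_of_not_dvd hY hqC
  by_cases hpσ : p ∈ sigma L
  · exact hY1 (le_bot_iff.mp ((le_inf le_rfl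
      (le_centralizer_of_sigma hG hL hA.isPGroup hAL hpσ hY hYL hqσ hAY)).trans hYA.le))
  have hpL := hA.tau2_of_not_sigma hG hL hAL hpσ
  haveI : Group.IsSolvable A := isSolvable_of_isPGroup hA.isPGroup
  have hYO : Y ≤ coreOf p L := inv_le_coreOf (hA.transitivityHypothesis hG hmax) hA.isPGroup hL.1
    hAL hYL (fun hd => hqp (eq_of_dvd_card_pGroup hY hp.out hd).symm) hAY
  obtain ⟨SO, hAS, hYS⟩ := le_invariant_sylow (p := q) (hAL.trans (le_normalizer_coreOf L))
    (coprime_of_isPGroup hA.isPGroup (coreOf_not_dvd L)) (Or.inl inferInstance) Y hYO hY hAY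
  obtain ⟨j, -, -, hj⟩ := exists_line_of_core hG hL hpL hA hAL hqp hqσ (SO.isPGroup'.map _)
    (Subgroup.map_subtype_le _)
    (by
      rw [Subgroup.relIndex, Subgroup.subgroupOf,
        Subgroup.comap_map_eq_self_of_injective (coreOf p L).subtype_injective]
      exact SO.not_dvd_index) hAS (inf_eq_bot_of_not_dvd (SO.isPGroup'.map _) hqC) hYS hY1
    (le_commutator_of_fixed_free hA hqp hY hAY hYA)
  exact not_normalizer_plane_le hG hL hpL hA hAL
    (normalizer_le_of_meets hG hL hpL hAL hl hlc hNl j fun n hn hnc _ hnj => hj n hn hnc hnj)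

/-- A line fixing a part of `M_α` has its normalizer in `M` alone. -/
theorem unique_of_fixed_alpha (hG : IsMinSimpleOddOrder G) {M A : Subgroup G} (hM : IsCoatom M)
    (hp2 : p ∈ tau2 M) (hA : IsPlane p A) (hAM : A ≤ M) {r : ℕ} [hr : Fact r.Prime]
    (hrα : r ∈ alpha M) (hrC : ¬ r ∣ Nat.card (Subgroup.centralizer (A : Set G)))
    {l : Subgroup G} (hl : l ≤ A) (hlc : Nat.card l = p) {Y : Subgroup G} (hY : IsPGroup r Y)
    (hY1 : Y ≠ ⊥) (hYM : Y ≤ M) (hAY : A ≤ Subgroup.normalizer (Y : Set G))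
    (hYl : Y ≤ Subgroup.centralizer (l : Set G)) :
    Subgroup.normalizer (l : Set G) ≤ M ∧
      ∀ L : Subgroup G, IsCoatom L → Subgroup.normalizer (l : Set G) ≤ L → L = M := by
  by_contra h
  obtain ⟨L, hL, hNL, hne⟩ := exists_coatom_ne hG (ne_bot_of_card hlc) (hl.trans hAM) hM h
  have hrσ := mem_sigma_of_alpha hG hM hrα
  exact false_of_line hG hM hp2 hA hAM (fun e => hp2.2.1 (by subst e; exact hrσ)) hl hlc hY hY1 hAY
    hYl hrC hL hNL (alpha_sigma_disjoint hG hM hL
      (not_conj_of_fixed hG hM hp2 hlc (hl.trans hAM) hrσ hY hY1 hYM hYl hNL hne) hrα)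

omit hp in
theorem exists_alpha_cube {M : Subgroup G} (hG : IsMinSimpleOddOrder G) (hM : IsCoatom M) {r : ℕ}
    (hr : r ∈ alpha M) :
    ∃ E : Subgroup G, E ≤ alphaCore M ∧ IsElementaryAbelian r E ∧ r ^ 2 < Nat.card E := by
  haveI := Fact.mk hr.1
  obtain ⟨E, hEM, hE, hEc⟩ := exists_elementary_of_not_pRankLE hr.2
  exact ⟨E, le_alphaCore hG hM hEM fun s hs hd =>
    eq_of_dvd_card_pGroup (isPGroup_of_elementary hE) hs hd ▸ hr, hE, hEc⟩

omit hp in
/-- Without `α`-primes an invariant Sylow subgroup for `σ(M)` is normal in `M`. -/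
theorem le_normalizer_of_no_alpha (hG : IsMinSimpleOddOrder G) {M Q : Subgroup G} (hM : IsCoatom M)
    (hα : ∀ r, r ∉ alpha M) {q : ℕ} [Fact q.Prime] (hQ : IsPGroup q Q) (hQM : Q ≤ M)
    (hQf : ¬ q ∣ Q.relIndex M) (hQD : Q ≤ ⁅M, M⁆) : M ≤ Subgroup.normalizer (Q : Set G) := by
  haveI := solvable_of_ne_top hG hM.1
  have hnil := (Cfsg.Agent.S1451.result (odd_card hG M)
    (Or.inl fun r hr => not_not.mp fun h => hα r ⟨hr, h⟩)).1
  have hQc : Q.subgroupOf M ≤ commutator ↥M := fun x hx => by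
    have h : (x : G) ∈ ⁅M, M⁆ := hQD hx
    rw [← Subgroup.map_subtype_commutator] at h
    obtain ⟨y, hy, hye⟩ := h
    rwa [show x = y from Subtype.ext hye.symm]
  have hle : Q.subgroupOf M ≤ pCore q ↥M :=
    le_pCore_of_le_nilpotent (F := commutator ↥M) inferInstance hnil hQ.comap_subtype hQc
  have heq : Q.subgroupOf M = pCore q ↥M := le_antisymm hle
    (((hQ.comap_subtype : IsPGroup q (Q.subgroupOf M)).toSylow hQf).is_maximal'
      Constrained.isPGroup_pCore hle).le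
  haveI : (Q.subgroupOf M).Normal := by rw [heq]; infer_instance
  exact (Subgroup.normal_subgroupOf_iff_le_normalizer hQM).mp inferInstance

/-- **BG 12.5 (d).** No prime of `σ(M)` divides `|C(A)|`. -/
theorem not_dvd_centralizer_of_sigma (hG : IsMinSimpleOddOrder G) {M A : Subgroup G}
    (hM : IsCoatom M) (hp2 : p ∈ tau2 M) (hA : IsPlane p A) (hAM : A ≤ M) {q : ℕ}
    (hq : q ∈ sigma M) : ¬ q ∣ Nat.card (Subgroup.centralizer (A : Set G)) := by
  intro hqC
  haveI := Fact.mk hq.1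
  have hmax := hA.maximal hG hM hp2 hAM
  have hqp : q ≠ p := fun e => hp2.2.1 (e ▸ hq)
  have hU0 := not_normalizer_plane_le hG hM hp2 hA hAM
  set C := Subgroup.centralizer (A : Set G) with hCdef
  set N := Subgroup.normalizer (A : Set G) with hN
  set K := centCore A A
  have hKC : K ≤ C := centCore_le_centralizer A A
  have hKp : ¬ p ∣ Nat.card K := fun hd =>
    (piCoreOf_not_dvd _ _ hp.out hd).2 (hA.card ▸ dvd_pow_self p two_ne_zero)
  obtain ⟨R, -, hRσ, hR, hAR, hRi⟩ := exists_inv_sylow_sigma hG hM hA.isPGroup hAM hp2.2.1 hq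
    IsPGroup.of_bot bot_le (by rw [Subgroup.normalizer_eq_top]; exact le_top)
  have hRM : R ≤ M := hRσ.trans (Subgroup.map_subtype_le _)
  have hRm := mem_maxInv_of_full hR hRi hAR
  have hdec : ∀ g ∈ N, ∃ k ∈ K, ∃ d ∈ M ⊓ N, g = k * d := by
    intro g hg
    obtain ⟨k, hk, hkeq⟩ := hA.conj_maxInv hG hmax hq.1 hqp hqC hRm (maxInv_map_conj hq.1 hRm hg)
    refine ⟨k, hk, k⁻¹ * g, ⟨normalizer_full_le hq hRM hR
      (fun h => hRi (h.trans (Subgroup.relIndex_dvd_index_of_le hRM))) ?_,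
      Subgroup.mul_mem _ (Subgroup.inv_mem _ (Subgroup.centralizer_le_normalizer _ (hKC hk))) hg⟩,
      (mul_inv_cancel_left k g).symm⟩
    rw [Subgroup.mem_normalizer_iff_map_conj_eq]
    refine (map_conj_map_conj g k⁻¹ R).symm.trans ?_
    rw [hkeq, map_conj_map_conj, inv_mul_cancel, map_conj_one]
  -- a Sylow `p`-subgroup of `M` is one of `N(A)` and of `G`
  have hAMN : A ≤ M ⊓ N := le_inf hAM Subgroup.le_normalizer
  obtain ⟨P₁, hAP₁, hP₁MN, hP₁, hP₁f⟩ := exists_full hAMN hA.isPGroup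
  obtain ⟨P, hP₁P, hPM, hP, hPf⟩ := exists_full (hP₁MN.trans inf_le_left) hP₁
  have hAP : A ≤ P := hAP₁.trans hP₁P
  have hab := sylow_comm_of_tau2 hG hM hp2 hP hPM hPf
  have hPC : P ≤ C := fun x hx => Subgroup.mem_centralizer_iff.mpr fun a ha =>
    congrArg Subtype.val (hab.is_comm.comm (⟨a, hAP ha⟩ : P) ⟨x, hx⟩)
  have hP₁eq : P = P₁ := eq_of_full hP₁f hP₁P
    (le_inf hPM (hPC.trans (Subgroup.centralizer_le_normalizer _))) hP
  subst hP₁eq
  have hPfN : ¬ p ∣ P.relIndex N := by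
    rw [← Subgroup.relIndex_mul_relIndex P (M ⊓ N) N hP₁MN inf_le_right]
    refine fun h => (hp.out.dvd_mul.mp h).elim hP₁f fun h' => hKp ?_
    rw [relIndex_eq_of_supplement (hKC.trans (Subgroup.centralizer_le_normalizer _)) inf_le_right
      (le_normalizer_map_characteristic (le_normalizer_centralizer le_rfl) _) hdec] at h'
    exact h'.trans (Subgroup.relIndex_dvd_card _ _)
  have hPG : ¬ p ∣ P.index := not_dvd_index_of_normalizer_le hP hPfN
    (normalizer_full_le_normalizer_plane hG hM hp2 hP hPM hPf hA hAP)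
  set S : Sylow p G := hP.toSylow hPG
  set NP := Subgroup.normalizer (P : Set G)
  -- `A = [A, N(A)]`
  have hPNP : P ≤ NP := Subgroup.le_normalizer
  haveI : (P.subgroupOf NP).Normal :=
    (Subgroup.normal_subgroupOf_iff_le_normalizer hPNP).mpr le_rfl
  obtain ⟨V₀, hV₀⟩ := Subgroup.exists_right_complement'_of_coprime (N := P.subgroupOf NP) (by
    rw [Nat.card_congr (Subgroup.subgroupOfEquivOfLe hPNP).toEquiv]
    refine Nat.coprime_of_dvd fun r hr h1 h2 => hPG ?_
    rw [eq_of_dvd_card_pGroup hP hr h1] at h2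
    exact h2.trans (Subgroup.relIndex_dvd_index_of_le hPNP))
  set V := V₀.map NP.subtype
  have hVN : V ≤ NP := Subgroup.map_subtype_le _
  have hinf : P ⊓ V = ⊥ := by
    rw [Subgroup.eq_bot_iff_forall]
    rintro x ⟨hx, ⟨y, hy, rfl⟩⟩
    have h2 : y ∈ P.subgroupOf NP ⊓ V₀ := ⟨hx, hy⟩
    rw [hV₀.disjoint.eq_bot, Subgroup.mem_bot] at h2
    rw [h2, map_one]
  have hcompl : IsComplIn (S : Subgroup G) V (Subgroup.normalizer ((S : Subgroup G) : Set G)) := by
    refine ⟨hPNP, hVN, hinf, fun m hm => ?_⟩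
    obtain ⟨⟨a, b⟩, hab', -⟩ := (Subgroup.isComplement_iff_existsUnique.mp hV₀) ⟨m, hm⟩
    exact ⟨(a : NP), a.2, (b : NP), ⟨_, b.2, rfl⟩, (congrArg Subtype.val hab').symm⟩
  have hPV : P = ⁅P, V⁆ := (sylow_eq_commutator hG S hcompl).1
  have hcopV : (Nat.card V).Coprime (Nat.card P) := by
    refine ((coprime_of_isPGroup hP ?_)).symm
    rw [Subgroup.card_map_of_injective NP.subtype_injective]
    intro h
    refine hPG (h.trans ?_)
    have h2 : Nat.card V₀ = (P.subgroupOf NP).index := (hV₀.symm.index_eq_card).symm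
    rw [h2]
    exact Subgroup.relIndex_dvd_index_of_le hPNP
  have hPV0 : P ⊓ Subgroup.centralizer (V : Set G) = ⊥ := by
    have h := commutator_inf_centralizer_eq_bot hab hVN hcopV
    rwa [← hPV] at h
  have hVA : V ≤ N := hVN.trans (normalizer_full_le_normalizer_plane hG hM hp2 hP hPM hPf hA hAP)
  have hAV : A ≤ ⁅A, V⁆ := by
    have h := commutator_sup_centralizer_of_comm hA.elem.1 hVA
      (Nat.Coprime.coprime_dvd_right (Subgroup.card_dvd_of_le hAP) hcopV)
    rw [show A ⊓ Subgroup.centralizer (V : Set G) = ⊥ from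
      le_bot_iff.mp ((inf_le_inf_right _ hAP).trans hPV0.le), sup_bot_eq] at h
    exact h.ge
  have hAD : A ≤ ⁅M, M⁆ := by
    refine hAV.trans (Subgroup.commutator_le.mpr fun a ha v hv => ?_)
    obtain ⟨k, hk, d, hd, rfl⟩ := hdec v (hVA hv)
    have hka : ∀ b ∈ A, k * b = b * k := fun b hb =>
      (Subgroup.mem_centralizer_iff.mp (hKC hk) b hb).symm
    have h1 : d * a⁻¹ * d⁻¹ ∈ A := (Subgroup.mem_normalizer_iff.mp hd.2 _).mp (inv_mem ha)
    have h2 : ⁅a, k * d⁆ = ⁅a, d⁆ := by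
      rw [commutatorElement_def, commutatorElement_def]
      calc a * (k * d) * a⁻¹ * (k * d)⁻¹ = a * (k * (d * a⁻¹ * d⁻¹)) * k⁻¹ := by group
        _ = a * ((d * a⁻¹ * d⁻¹) * k) * k⁻¹ := by rw [hka _ h1]
        _ = a * d * a⁻¹ * d⁻¹ := by group
    rw [h2]
    exact Subgroup.commutator_mem_commutator (hAM ha) hd.1
  haveI := solvable_of_ne_top hG hM.1
  by_cases hα : ∃ r, r ∈ alpha M
  swap
  · -- `A = Ω₁(O_p(M'))` is normal in `M`
    have hnil := (Cfsg.Agent.S1451.result (odd_card hG M)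
      (Or.inl fun r hr => not_not.mp fun h => hα ⟨r, hr, h⟩)).1
    have hAc : A.subgroupOf M ≤ commutator ↥M := fun x hx => by
      have h : (x : G) ∈ ⁅M, M⁆ := hAD hx
      rw [← Subgroup.map_subtype_commutator] at h
      obtain ⟨y, hy, hye⟩ := h
      rwa [show x = y from Subtype.ext hye.symm]
    have hAp : A.subgroupOf M ≤ pCore p ↥M :=
      le_pCore_of_le_nilpotent (F := commutator ↥M) inferInstance hnil hA.isPGroup.comap_subtype hAc
    have hMA : M ≤ N := le_normalizer_of_conj_mem fun m hm a ha => by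
      have h1 : (⟨m, hm⟩ : M) * ⟨a, hAM ha⟩ * (⟨m, hm⟩ : M)⁻¹ ∈ pCore p ↥M :=
        (inferInstance : (pCore p ↥M).Normal).conj_mem _ (hAp ha) _
      have h2 : m * a * m⁻¹ ∈ rCore p M := ⟨_, h1, rfl⟩
      have h3 : rCore p M ≤ P := by
        have h := eq_of_full hPf (le_sup_right : P ≤ rCore p M ⊔ P) (sup_le (rCore_le p M) hPM)
          (by
            have := IsPGroup.to_sup_of_normal_right' hP (isPGroup_rCore (p := p) M)
              (hPM.trans (le_normalizer_rCore p M))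
            rwa [sup_comm] at this)
        exact h ▸ le_sup_left
      refine (omega_of_tau2 hG hM hp2 hP hPM hPf hA hAP (h3 h2)).mp ?_
      rw [← MulAut.conj_apply, ← map_pow, hA.elem.2 a ha, map_one]
    exact hU0 ((normalizer_eq_of_le hG hM hA.ne_bot (ne_top_of_le_coatom hM hAM) hMA).le)
  obtain ⟨r, hrα⟩ := hα
  haveI := Fact.mk hrα.1
  have hrσ := mem_sigma_of_alpha hG hM hrα
  have hrp : r ≠ p := fun e => hp2.2.1 (e ▸ hrσ)
  obtain ⟨T, -, hTσ, hT, hAT, hTi⟩ := exists_inv_sylow_sigma hG hM hA.isPGroup hAM hp2.2.1 hrσ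
    IsPGroup.of_bot bot_le (by rw [Subgroup.normalizer_eq_top]; exact le_top)
  have hTM : T ≤ M := hTσ.trans (Subgroup.map_subtype_le _)
  have hTα : T ≤ alphaCore M :=
    le_alphaCore hG hM hTM fun s hs hd => eq_of_dvd_card_pGroup hT hs hd ▸ hrα
  have hpT : ¬ p ∣ Nat.card T := fun hd => hrp (eq_of_dvd_card_pGroup hT hp.out hd).symm
  have hDD : C ≤ M → False := fun h => hU0 (normalizer_plane_le hG hA hmax hM hp2.2.1 h hq hqC)
  have hcyc : ∀ n : Subgroup G, n ≤ A → Nat.card n = p →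
      IsCyclic ↥(T ⊓ Subgroup.centralizer (n : Set G)) := by
    intro n hn hnc
    by_contra hnc'
    have hYp : IsPGroup r ↥(T ⊓ Subgroup.centralizer (n : Set G)) := hT.to_le inf_le_left
    have hY1 : T ⊓ Subgroup.centralizer (n : Set G) ≠ ⊥ := fun h => hnc' (h ▸ inferInstance)
    refine hnc' (LocalP.isCyclic_of_pRankLE_one hYp (ne_two_of_isPGroup hG hYp hY1) ?_)
    by_contra hr1
    obtain ⟨E, hEY, hE, hEc⟩ := exists_elementary_of_not_pRankLE hr1
    obtain ⟨M', -, huniq⟩ := unique_centralizer_of_alpha hG hM (hn.trans hAM) (fun s hs hd h => by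
      rw [hnc] at hd
      exact hp2.2.1 (mem_sigma_of_alpha hG hM ((Nat.prime_dvd_prime_iff_eq hs hp.out).mp hd ▸ h)))
      (not_rankLE_of_elementary hrα.1 (hEY.trans (inf_le_inf_right _ hTα)) hE hEc)
    have hCn : Subgroup.centralizer (n : Set G) ≠ ⊤ := fun h =>
      normalizer_ne_top hG (ne_bot_of_card hnc) (ne_top_of_le_coatom hM (hn.trans hAM))
        (top_le_iff.mp (h ▸ Subgroup.centralizer_le_normalizer _))
    exact hDD ((Subgroup.centralizer_le hn).trans (le_of_unique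
      (fun H h1 h2 => (huniq H ⟨h1, h2⟩).trans (huniq M ⟨hM, inf_le_left⟩).symm)
      inf_le_right hCn))
  have hTC : T ⊓ C = ⊥ := by
    by_contra h
    have hTle : T ≤ C := hA.generate hAT hpT fun n hn hnc => by
      by_contra hle
      refine h (le_bot_iff.mp ?_)
      have hAY : A ≤ Subgroup.normalizer ((T ⊓ Subgroup.centralizer (n : Set G) : Subgroup G) : Set G) :=
        le_normalizer_inf' hAT (le_normalizer_centralizer (hA.le_normalizer_of_le hn))
      obtain ⟨h0, -⟩ := inf_centralizer_of_cyclic (hT.to_le inf_le_left) (hcyc n hn hnc) hAY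
        (coprime_of_isPGroup hA.isPGroup fun hd =>
          hpT (hd.trans (Subgroup.card_dvd_of_le inf_le_left))) hle
      exact (le_inf (le_inf inf_le_left (inf_le_right.trans (Subgroup.centralizer_le hn)))
        inf_le_right).trans h0.le
    obtain ⟨n, hn, hnc⟩ := hA.exists_line
    have hTn : T ⊓ Subgroup.centralizer (n : Set G) = T :=
      inf_eq_left.mpr (hTle.trans (Subgroup.centralizer_le hn))
    have hTc : IsCyclic T := hTn ▸ hcyc n hn hnc
    obtain ⟨E, hEM, hE, hEc⟩ := exists_elementary_of_not_pRankLE hrα.2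
    have hTf : ¬ r ∣ T.relIndex M := fun h => hTi (h.trans (Subgroup.relIndex_dvd_index_of_le hTM))
    exact not_pRankLE_full hT hTf hrα.2 (fun B hB hBe => by
      haveI := hTc
      haveI : IsCyclic B := Subgroup.isCyclic B
      refine le_trans ?_ (Nat.pow_le_pow_right hrα.1.pos (by norm_num : 1 ≤ 2))
      rw [pow_one, ← IsCyclic.exponent_eq_card]
      exact Nat.le_of_dvd hrα.1.pos (Monoid.exponent_dvd_of_forall_pow_eq_one fun x =>
        Subtype.ext (by simpa using hBe x x.2)))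
  have hrC := not_dvd_centralizer_of_fixed_free hG hA hmax hrp (mem_maxInv_of_full hT hTi hAT) hTC
  have hT1 : T ≠ ⊥ := fun h => hTi (by
    rw [h, Subgroup.index_bot]; exact hrσ.2.1.trans (Subgroup.card_subgroup_dvd_card M))
  obtain ⟨m, hm, hmc, hmT⟩ := hA.exists_line_fixed hAT hpT hT1
  obtain ⟨hNm, -⟩ := unique_of_fixed_alpha hG hM hp2 hA hAM hrα hrC hm hmc
    (hT.to_le inf_le_left) hmT (inf_le_left.trans hTM)
    (le_normalizer_inf' hAT (le_normalizer_centralizer (hA.le_normalizer_of_le hm))) inf_le_right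
  exact hDD (((Subgroup.centralizer_le hm).trans (Subgroup.centralizer_le_normalizer _)).trans hNm)

/-- **BG 12.5 (d).** -/
theorem sigmaCore_inf_centralizer_plane (hG : IsMinSimpleOddOrder G) {M A : Subgroup G}
    (hM : IsCoatom M) (hp2 : p ∈ tau2 M) (hA : IsPlane p A) (hAM : A ≤ M) :
    sigmaCore M ⊓ Subgroup.centralizer (A : Set G) = ⊥ := by
  refine Subgroup.inf_eq_bot_of_coprime (Nat.coprime_of_dvd fun q hq h1 h2 => ?_)
  exact not_dvd_centralizer_of_sigma hG hM hp2 hA hAM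
    (by_contra fun h => not_dvd_sigmaCore hq h h1) h2

omit hp in
theorem le_centralizer_of_not_beta (hG : IsMinSimpleOddOrder G) {L A Y : Subgroup G}
    (hL : IsCoatom L) {s q : ℕ} [hs : Fact s.Prime] [hq : Fact q.Prime] (hA : IsPGroup s A)
    (hY : IsPGroup q Y) (hqs : q ≠ s) (hsβ : s ∉ beta L) (hqβ : q ∉ beta L) (hAD : A ≤ ⁅L, L⁆)
    (hYD : Y ≤ ⁅L, L⁆) (hAY : A ≤ Subgroup.normalizer (Y : Set G)) :
    Y ≤ Subgroup.centralizer (A : Set G) := by
  have hpY : ¬ s ∣ Nat.card Y := fun hd => hqs (eq_of_dvd_card_pGroup hY hs.out hd).symm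
  set K := Y ⊔ A
  have hKc : Nat.card K = Nat.card Y * Nat.card A := OddLocal.FrobFormula.card_sup_eq_mul Y A hAY
    (by rw [inf_comm]; exact Constrained.disjoint_of_isPGroup_of_not_dvd hA hpY)
  obtain ⟨H, ⟨hHK, -, hHi⟩, hHn⟩ := exists_nilpotent_hall hG hL (sup_le hYD hAD : K ≤ ⁅L, L⁆)
  have hKH : K ≤ H := Subgroup.relIndex_eq_one.mp (Nat.eq_one_iff_not_exists_prime_dvd.mpr
    fun r hr hd => hHi r hr ⟨hr, (by
      have h := hd.trans (Subgroup.relIndex_dvd_card _ _)
      rw [hKc] at h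
      rcases hr.dvd_mul.mp h with h | h
      · rw [eq_of_dvd_card_pGroup hY hr h]; exact hqβ
      · rw [eq_of_dvd_card_pGroup hA hr h]; exact hsβ)⟩ hd)
  refine fun y hy => Subgroup.mem_centralizer_iff.mpr fun a ha => ?_
  exact CN.commute_of_coprime_orders hHn (hKH (Subgroup.mem_sup_right ha))
    (hKH (Subgroup.mem_sup_left hy)) (Nat.Coprime.coprime_dvd_left (A.orderOf_dvd_natCard ha)
      (Nat.Coprime.coprime_dvd_right (Y.orderOf_dvd_natCard hy) (coprime_of_isPGroup hA hpY)))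

/-- **The uniqueness of the normalizer** of a line fixing part of `M_σ`. -/
theorem unique_of_meets (hG : IsMinSimpleOddOrder G) {M A : Subgroup G} (hM : IsCoatom M)
    (hp2 : p ∈ tau2 M) (hA : IsPlane p A) (hAM : A ≤ M) {l : Subgroup G} (hl : l ≤ A)
    (hlc : Nat.card l = p) (hMl : Meets M l) :
    Subgroup.normalizer (l : Set G) ≤ M ∧
      ∀ L : Subgroup G, IsCoatom L → Subgroup.normalizer (l : Set G) ≤ L → L = M := by
  by_contra hno
  obtain ⟨L, hL, hNL, hne⟩ := exists_coatom_ne hG (ne_bot_of_card hlc) (hl.trans hAM) hM hno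
  have hmax := hA.maximal hG hM hp2 hAM
  have hσM : sigmaCore M ≤ M := Subgroup.map_subtype_le _
  obtain ⟨q, hq', Y, hY, hY1, hYW, hAY⟩ := exists_pGroup_inv hA.isPGroup
    (le_normalizer_inf' (hAM.trans (le_normalizer_sigmaCore M))
      (le_normalizer_centralizer (hA.le_normalizer_of_le hl)))
    (fun h => not_dvd_sigmaCore hp.out hp2.2.1 (h.trans (Subgroup.card_dvd_of_le inf_le_left))) hMl
  haveI := hq'
  have hqσM : q ∈ sigma M := by
    by_contra h
    exact hY1 (le_bot_iff.mp ((le_inf le_rfl (hYW.trans inf_le_left)).trans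
      (Constrained.disjoint_of_isPGroup_of_not_dvd hY (not_dvd_sigmaCore hq'.out h)).le))
  have hqp : q ≠ p := fun e => hp2.2.1 (e ▸ hqσM)
  have hqC := not_dvd_centralizer_of_sigma hG hM hp2 hA hAM hqσM
  have hYM : Y ≤ M := (hYW.trans inf_le_left).trans hσM
  have hYl : Y ≤ Subgroup.centralizer (l : Set G) := hYW.trans inf_le_right
  have hnc := not_conj_of_fixed hG hM hp2 hlc (hl.trans hAM) hqσM hY hY1 hYM hYl hNL hne
  have hnc' : ∀ g : G, M.map (MulAut.conj g).toMonoidHom ≠ L := fun g h => hnc g⁻¹ (by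
    rw [← h, map_conj_map_conj, inv_mul_cancel, map_conj_one])
  by_cases hqσ : q ∈ sigma L
  swap
  · exact false_of_line hG hM hp2 hA hAM hqp hl hlc hY hY1 hAY hYl hqC hL hNL hqσ
  have hqαM : q ∉ alpha M := fun h => alpha_sigma_disjoint hG hM hL hnc h hqσ
  have hqαL : q ∉ alpha L := fun h => alpha_sigma_disjoint hG hL hM hnc' h hqσM
  have hAL : A ≤ L := (hA.le_normalizer_of_le hl).trans hNL
  have hCl : Subgroup.centralizer (l : Set G) ≤ L :=
    (Subgroup.centralizer_le_normalizer _).trans hNL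
  have hYL : Y ≤ L := hYl.trans hCl
  have hYA : Y ⊓ Subgroup.centralizer (A : Set G) = ⊥ := inf_eq_bot_of_not_dvd hY hqC
  by_cases hpσ : p ∈ sigma L
  · have hsd := sigmaCore_le_derived hG hL
    exact hY1 (le_bot_iff.mp ((le_inf le_rfl (le_centralizer_of_not_beta hG hL hA.isPGroup hY hqp
      (fun h => not_ideal hG hM hp2.2.2.1 hp2.2.2.2 h.2) (fun h => hqαL h.1)
      ((le_sigmaCore_of_isPGroup hG hL hA.isPGroup hAL hpσ).trans hsd)
      ((le_sigmaCore_of_isPGroup hG hL hY hYL hqσ).trans hsd) hAY)).trans hYA.le))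
  have hpL := hA.tau2_of_not_sigma hG hL hAL hpσ
  obtain ⟨Q, hYQ, hQσ, hQ, hAQ, hQi⟩ := exists_inv_sylow_sigma hG hM hA.isPGroup hAM hp2.2.1 hqσM hY
    hYM hAY
  obtain ⟨R, hYR, hRσ, hR, hAR, hRi⟩ := exists_inv_sylow_sigma hG hL hA.isPGroup hAL hpσ hqσ hY
    hYL hAY
  obtain ⟨k, hk, hkeq⟩ := conj_of_meet_proper hG (hA.transitivityHypothesis hG hmax) hq'.out
    (fun hd => hqp (eq_of_dvd_card_pGroup hA.isPGroup hq'.out hd))
    (mem_maxInv_of_full hR hRi hAR) (mem_maxInv_of_full hQ hQi hAQ)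
    (H := Subgroup.centralizer (l : Set G)) (ne_top_of_le_coatom hL hCl)
    (hA.le_centralizer.trans (Subgroup.centralizer_le hl))
    (fun h => hY1 (le_bot_iff.mp ((le_inf hYl hYR).trans h.le)))
    (fun h => hY1 (le_bot_iff.mp ((le_inf hYl hYQ).trans h.le)))
  have hkL : k ∈ L := hCl (Subgroup.centralizer_le hl (centCore_le_centralizer A A hk))
  have hQM : Q ≤ M := hQσ.trans hσM
  have hQL : Q ≤ L := by
    rw [hkeq]
    rintro _ ⟨x, hx, rfl⟩
    exact mul_mem (mul_mem hkL ((hRσ.trans (Subgroup.map_subtype_le _)) hx)) (inv_mem hkL)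
  have hQfM : ¬ q ∣ Q.relIndex M := fun h => hQi (h.trans (Subgroup.relIndex_dvd_index_of_le hQM))
  have hQfL : ¬ q ∣ Q.relIndex L := fun h => hQi (h.trans (Subgroup.relIndex_dvd_index_of_le hQL))
  have hNM := normalizer_full_le hqσM hQM hQ hQfM
  have hNQL := normalizer_full_le hqσ hQL hQ hQfL
  have hαM : ∃ r, r ∈ alpha M := by
    by_contra h
    exact hne (eq_of_le_of_isCoatom hM hL ((le_normalizer_of_no_alpha hG hM (fun r hr => h ⟨r, hr⟩)
      hQ hQM hQfM (hQσ.trans (sigmaCore_le_derived hG hM))).trans hNQL))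
  have hαL : ∃ r, r ∈ alpha L := by
    by_contra h
    exact hne (eq_of_le_of_isCoatom hL hM ((le_normalizer_of_no_alpha hG hL (fun r hr => h ⟨r, hr⟩)
      hQ hQL hQfL ((le_sigmaCore_of_isPGroup hG hL hQ hQL hqσ).trans
        (sigmaCore_le_derived hG hL))).trans hNM)).symm
  have hpαM : p ∉ alpha M := fun h => hp2.2.1 (mem_sigma_of_alpha hG hM h)
  have hpαL : p ∉ alpha L := fun h => hpσ (mem_sigma_of_alpha hG hL h)
  haveI : Group.IsSolvable (alphaCore L) :=
    isSolvable_of_le (Subgroup.map_subtype_le _) (solvable_of_ne_top hG hL.1)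
  haveI : Group.IsSolvable (alphaCore M) :=
    isSolvable_of_le (Subgroup.map_subtype_le _) (solvable_of_ne_top hG hM.1)
  by_cases hcL : Y ≤ Subgroup.centralizer (alphaCore L : Set G)
  swap
  · obtain ⟨j, -, -, hj⟩ := exists_line_of_frob hA hqp hY hAY hYA
      (hAL.trans (le_normalizer_alphaCore L)) (hYL.trans (le_normalizer_alphaCore L))
      (not_dvd_alphaCore hp.out hpαL) (not_dvd_alphaCore hq'.out hqαL) hcL
    refine not_normalizer_plane_le hG hL hpL hA hAL
      (normalizer_le_of_meets hG hL hpL hAL hl hlc hNL j fun n hn hnc _ hnj h => hj n hn hnc hnj ?_)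
    exact le_bot_iff.mp ((inf_le_inf_right _ (alphaCore_hall hG hL).2.2.1).trans h.le)
  have hcM : ¬ Y ≤ Subgroup.centralizer (alphaCore M : Set G) := by
    intro hcM
    obtain ⟨r, hr⟩ := hαM
    obtain ⟨E, hE1, hE, hEc⟩ := exists_alpha_cube hG hM hr
    obtain ⟨s, hs⟩ := hαL
    obtain ⟨F, hF1, hF, hFc⟩ := exists_alpha_cube hG hL hs
    have hCY : Subgroup.centralizer (Y : Set G) ≠ ⊤ := fun h =>
      normalizer_ne_top hG hY1 (ne_top_of_le_coatom hM hYM)
        (top_le_iff.mp (h ▸ Subgroup.centralizer_le_normalizer _))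
    have hCM : Subgroup.centralizer (Y : Set G) ≤ M :=
      le_of_elementary hG hr.1 hM (hE1.trans (Subgroup.map_subtype_le _))
        (hE1.trans (Subgroup.le_centralizer_iff.mp hcM)) hCY
        (not_pRankLE_of_elementary le_rfl hE hEc)
    obtain ⟨M', -, huniq⟩ := unique_of_elementary hG hs.1 hF hFc
    exact hne ((huniq L ⟨hL, hF1.trans (Subgroup.map_subtype_le _)⟩).trans
      (huniq M ⟨hM, (hF1.trans (Subgroup.le_centralizer_iff.mp hcL)).trans hCM⟩).symm)
  obtain ⟨j, -, -, hj⟩ := exists_line_of_frob hA hqp hY hAY hYA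
    (hAM.trans (le_normalizer_alphaCore M)) (hYM.trans (le_normalizer_alphaCore M))
    (not_dvd_alphaCore hp.out hpαM) (not_dvd_alphaCore hq'.out hqαM) hcM
  have huq : ∀ n : Subgroup G, n ≤ A → Nat.card n = p → n ≠ j →
      Subgroup.normalizer (n : Set G) ≤ M ∧
        ∀ L' : Subgroup G, IsCoatom L' → Subgroup.normalizer (n : Set G) ≤ L' → L' = M := by
    intro n hn hnc hnj
    obtain ⟨r, hr', Y', hY', hY'1, hY'W, hAY'⟩ := exists_pGroup_inv hA.isPGroup
      (le_normalizer_inf' (hAM.trans (le_normalizer_alphaCore M))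
        (le_normalizer_centralizer (hA.le_normalizer_of_le hn)))
      (fun h => not_dvd_alphaCore hp.out hpαM (h.trans (Subgroup.card_dvd_of_le inf_le_left)))
      (hj n hn hnc hnj)
    haveI := hr'
    have hrα : r ∈ alpha M := by
      by_contra h
      exact hY'1 (le_bot_iff.mp ((le_inf le_rfl (hY'W.trans inf_le_left)).trans
        (Constrained.disjoint_of_isPGroup_of_not_dvd hY' (not_dvd_alphaCore hr'.out h)).le))
    exact unique_of_fixed_alpha hG hM hp2 hA hAM hrα
      (not_dvd_centralizer_of_sigma hG hM hp2 hA hAM (mem_sigma_of_alpha hG hM hrα)) hn hnc hY' hY'1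
      ((hY'W.trans inf_le_left).trans (Subgroup.map_subtype_le _)) hAY' (hY'W.trans inf_le_right)
  by_cases hjl : l = j
  swap
  · exact hno (huq l hl hlc hjl)
  subst hjl
  obtain ⟨n, hn, hnc'', hnl⟩ := hA.exists_line_ne hlc
  refine not_normalizer_plane_le hG hM hp2 hA hAM
    (normalizer_le_of_meets hG hM hp2 hAM hn hnc'' (huq n hn hnc'' hnl).1 l
      fun n' hn' hnc' _ hn'l h => hj n' hn' hnc' hn'l ?_)
  exact le_bot_iff.mp ((inf_le_inf_right _ (alphaCore_hall hG hM).2.2.1).trans h.le)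

end CfsgLib.Uniqueness
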