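import Cfsg.Agent.Uniqueness.TauTwoPlane
import Cfsg.Agent.OddLocal.FrobInternal

/-!
Bender–Glauberman 11–12: the conjugacy lemma for `τ₂`-lines, the translate argument and the
Frobenius fixed-point lemma.
-/

set_option autoImplicit false
set_option linter.style.haveILetI false

namespace CfsgLib.Uniqueness

open Cfsg CfsgLib CfsgLib.Coprime CfsgLib.Signalizer

universe u

variable {G : Type u} [Group G] [Finite G] {p : ℕ} [hp : Fact p.Prime]

/-- `n` centralises a non-trivial element of `M_σ`. -/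
def Meets (L n : Subgroup G) : Prop := sigmaCore L ⊓ Subgroup.centralizer (n : Set G) ≠ ⊥

omit hp in
theorem Meets.exists_pGroup {L n : Subgroup G} (h : Meets L n) :
    ∃ (q : ℕ) (_ : Fact q.Prime) (Y : Subgroup G), q ∈ sigma L ∧ IsPGroup q Y ∧ Y ≠ ⊥ ∧
      Y ≤ sigmaCore L ∧ Y ≤ Subgroup.centralizer (n : Set G) := by
  set W := sigmaCore L ⊓ Subgroup.centralizer (n : Set G)
  have hc : Nat.card W ≠ 1 := fun e => h (Subgroup.card_eq_one.mp e)
  obtain ⟨q, hq, hd⟩ := Nat.exists_prime_and_dvd hc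
  haveI := Fact.mk hq
  obtain ⟨y, hy⟩ := exists_prime_orderOf_dvd_card' (G := W) q hd
  have hyo : Nat.card (Subgroup.zpowers (y : G)) = q := by
    rw [Nat.card_zpowers, Subgroup.orderOf_coe, hy]
  refine ⟨q, ⟨hq⟩, Subgroup.zpowers (y : G), ?_, IsPGroup.of_card (n := 1) (by rw [hyo, pow_one]),
    fun e => ?_, Subgroup.zpowers_le.mpr y.2.1, Subgroup.zpowers_le.mpr y.2.2⟩
  · by_contra hσ
    exact not_dvd_sigmaCore hq hσ
      (hd.trans (Subgroup.card_dvd_of_le (inf_le_left : W ≤ sigmaCore L)))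
  · rw [e, Subgroup.card_bot] at hyo
    exact hq.one_lt.ne hyo

theorem plane_sup {l n : Subgroup G} (hl : Nat.card l = p) (hn : Nat.card n = p) (hne : l ≠ n)
    (h : ∀ a ∈ l, ∀ b ∈ n, a * b = b * a) : IsPlane p (l ⊔ n) := by
  refine ⟨elementary_sup (elementary_of_card hl) (elementary_of_card hn) h, ?_⟩
  rw [OddLocal.FrobFormula.card_sup_eq_mul l n (fun b hb => Subgroup.centralizer_le_normalizer _
    (Subgroup.mem_centralizer_iff.mpr fun a ha => h a ha b hb)) ?_, hl, hn, pow_two]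
  rw [Subgroup.eq_bot_iff_forall]
  exact fun x hx => by_contra fun hx1 => hne (eq_of_lines hl hn hx.1 hx.2 hx1)

/-- A line of a `p`-group lies in a plane of it unless it is the only line. -/
theorem exists_plane_ge {R n X : Subgroup G} (hR : IsPGroup p R) (hn : Nat.card n = p) (hnR : n ≤ R)
    (hX : Nat.card X = p) (hXR : X ≤ R) (hne : X ≠ n) :
    ∃ B : Subgroup G, IsPlane p B ∧ n ≤ B ∧ B ≤ R := by
  haveI : Nontrivial R := (Subgroup.nontrivial_iff_ne_bot R).mpr fun e => by
    rw [e, le_bot_iff] at hnR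
    rw [hnR, Subgroup.card_bot] at hn
    exact hp.out.one_lt.ne hn
  haveI := hR.center_nontrivial
  obtain ⟨z, hz⟩ := exists_prime_orderOf_dvd_card' (G := Subgroup.center R) p (by
    obtain ⟨k, hk⟩ := IsPGroup.iff_card.mp (hR.to_subgroup (Subgroup.center R))
    rw [hk]
    refine dvd_pow_self p fun h => ?_
    rw [h, pow_zero] at hk
    exact absurd hk (Finite.one_lt_card (α := Subgroup.center R)).ne')
  have hzc : ∀ y ∈ R, y * ((z : R) : G) = ((z : R) : G) * y := fun y hy =>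
    congrArg Subtype.val (Subgroup.mem_center_iff.mp z.2 ⟨y, hy⟩)
  have hZ : Nat.card (Subgroup.zpowers ((z : R) : G)) = p := by
    rw [Nat.card_zpowers, Subgroup.orderOf_coe, Subgroup.orderOf_coe, hz]
  have hzcomm : ∀ y ∈ R, ∀ b ∈ Subgroup.zpowers ((z : R) : G), y * b = b * y := fun y hy b hb => by
    obtain ⟨i, rfl⟩ := Subgroup.mem_zpowers_iff.mp hb
    exact (show Commute y ((z : R) : G) from hzc y hy).zpow_right i
  by_cases hzn : Subgroup.zpowers ((z : R) : G) = n
  · exact ⟨n ⊔ X, plane_sup hn hX hne.symm fun a ha b hb => (hzcomm b (hXR hb) a (hzn ▸ ha)).symm,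
      le_sup_left, sup_le hnR hXR⟩
  · exact ⟨n ⊔ Subgroup.zpowers ((z : R) : G),
      plane_sup hn hZ (Ne.symm hzn) fun a ha b hb => hzcomm a (hnR ha) b hb,
      le_sup_left, sup_le hnR (Subgroup.zpowers_le.mpr (z : R).2)⟩

/-- **The conjugacy lemma.** A line `n` of `L` centralising `Y ≠ 1` in `M_σ` and with normalizer in
a conjugate `gLg⁻¹` containing `Y` forces that conjugate to be `L`. -/
theorem mem_of_fixed_conj (hG : IsMinSimpleOddOrder G) {L : Subgroup G} (hL : IsCoatom L)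
    (hp2 : p ∈ tau2 L) {n : Subgroup G} (hn : Nat.card n = p) (hnL : n ≤ L) {q : ℕ}
    [hq' : Fact q.Prime] (hq : q ∈ sigma L) {Y : Subgroup G} (hY : IsPGroup q Y) (hY1 : Y ≠ ⊥)
    (hYL : Y ≤ L) (hnY : Y ≤ Subgroup.centralizer (n : Set G)) {g : G}
    (hYg : Y ≤ L.map (MulAut.conj g).toMonoidHom)
    (hNn : Subgroup.normalizer (n : Set G) ≤ L.map (MulAut.conj g).toMonoidHom) : g ∈ L := by
  obtain ⟨m, hm, c, hc, hmc⟩ := fuses hG hL hq Y hY hY1 hYL g⁻¹ (by
    rintro _ ⟨y, hy, rfl⟩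
    have h1 := mem_map_conj_iff.mp (hYg hy)
    show g⁻¹ * y * g⁻¹⁻¹ ∈ L
    rwa [inv_inv])
  have hgc : g = c⁻¹ * m⁻¹ := by rw [← inv_inv g, hmc, mul_inv_rev]
  suffices hcL : c ∈ L by
    rw [hgc]; exact mul_mem (inv_mem hcL) (inv_mem hm)
  have hmap : L.map (MulAut.conj g).toMonoidHom = L.map (MulAut.conj c⁻¹).toMonoidHom := by
    rw [hgc, ← map_conj_map_conj,
      map_conj_eq_of_mem_normalizer (Subgroup.le_normalizer (inv_mem hm))]
  rw [hmap] at hNn hYg
  have hmemL : ∀ x ∈ L.map (MulAut.conj c⁻¹).toMonoidHom, c * x * c⁻¹ ∈ L := fun x hx => by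
    have := mem_map_conj_iff.mp hx
    rwa [inv_inv] at this
  have hCn := Subgroup.centralizer_le_normalizer (n : Set G)
  set W := L ⊓ Subgroup.centralizer (Y : Set G) with hW
  have hnW : n ≤ W := le_inf hnL (Subgroup.le_centralizer_iff.mp hnY)
  by_cases hB : ∃ B : Subgroup G, IsPlane p B ∧ n ≤ B ∧ B ≤ W
  · obtain ⟨B, hBp, hnB, hBW⟩ := hB
    have hBL : B ≤ L := hBW.trans inf_le_left
    have hmax := hBp.maximal hG hL hp2 hBL
    have hBn : B ≤ Subgroup.centralizer (n : Set G) :=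
      hBp.le_centralizer.trans (Subgroup.centralizer_le hnB)
    have hYB : Y ≤ Subgroup.centralizer (B : Set G) :=
      Subgroup.le_centralizer_iff.mp (hBW.trans inf_le_right)
    have hqC : q ∣ Nat.card (Subgroup.centralizer (B : Set G)) := by
      obtain ⟨k, hk⟩ := IsPGroup.iff_card.mp hY
      rcases k with - | k
      · exact absurd (Subgroup.card_eq_one.mp (by rw [hk, pow_zero])) hY1
      · exact (hk ▸ dvd_pow_self q k.succ_ne_zero).trans (Subgroup.card_dvd_of_le hYB)
    have hqp : q ≠ p := fun e => hp2.2.1 (e ▸ hq)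
    obtain ⟨Q₁, -, hQ₁σ, hQ₁, hBQ₁, hQ₁i⟩ := exists_inv_sylow_sigma hG hL hBp.isPGroup hBL hp2.2.1
      hq IsPGroup.of_bot bot_le (by rw [Subgroup.normalizer_eq_top]; exact le_top)
    have hQ₁L : Q₁ ≤ L := hQ₁σ.trans (Subgroup.map_subtype_le _)
    have hB'L : B.map (MulAut.conj c).toMonoidHom ≤ L := by
      rintro _ ⟨b, hb, rfl⟩
      exact hmemL b (hNn (hCn (hBn hb)))
    obtain ⟨R, -, hRσ, hR, hBR, hRi⟩ := exists_inv_sylow_sigma hG hL
      (hBp.map_conj c).isPGroup hB'L hp2.2.1 hq IsPGroup.of_bot bot_le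
      (by rw [Subgroup.normalizer_eq_top]; exact le_top)
    set Q₂ := R.map (MulAut.conj c⁻¹).toMonoidHom with hQ₂
    have hBQ₂ : B ≤ Subgroup.normalizer (Q₂ : Set G) := by
      have := Subgroup.map_mono (f := (MulAut.conj c⁻¹).toMonoidHom) hBR
      rwa [map_conj_map_conj, inv_mul_cancel, map_conj_one, map_normalizer_conj] at this
    have hQ₂i : ¬ q ∣ Q₂.index := by
      rwa [hQ₂, Subgroup.index_map_of_bijective (MulAut.conj c⁻¹).bijective]
    obtain ⟨k, hk, hkeq⟩ := hBp.conj_maxInv hG hmax hq'.out hqp hqC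
      (mem_maxInv_of_full hQ₁ hQ₁i hBQ₁) (mem_maxInv_of_full (hR.map _) hQ₂i hBQ₂)
    have hkL' : k ∈ L.map (MulAut.conj c⁻¹).toMonoidHom :=
      hNn (hCn (Subgroup.centralizer_le hnB (centCore_le_centralizer B B hk)))
    have hQ₁L' : Q₁ ≤ L.map (MulAut.conj c⁻¹).toMonoidHom := by
      intro x hx
      have h1 : k * x * k⁻¹ ∈ Q₂ := hkeq.ge (Subgroup.mem_map_of_mem (MulAut.conj k).toMonoidHom hx)
      have h2 : k * x * k⁻¹ ∈ L.map (MulAut.conj c⁻¹).toMonoidHom :=
        Subgroup.map_mono (hRσ.trans (Subgroup.map_subtype_le _)) h1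
      rw [show x = k⁻¹ * (k * x * k⁻¹) * k by group]
      exact mul_mem (mul_mem (inv_mem hkL') h2) hkL'
    have hQc : Q₁.map (MulAut.conj c).toMonoidHom ≤ L := by
      rintro _ ⟨x, hx, rfl⟩
      exact hmemL x (hQ₁L' hx)
    have hQ₁f : ¬ q ∣ Q₁.relIndex L := fun h =>
      hQ₁i (h.trans (Subgroup.relIndex_dvd_index_of_le hQ₁L))
    obtain ⟨z, hz, hzeq⟩ := exists_conj_of_full hQc (hQ₁.map _) (fun h => hQ₁i (by
      have := h.trans (Subgroup.relIndex_dvd_index_of_le hQc)
      rwa [Subgroup.index_map_of_bijective (MulAut.conj c).bijective] at this)) hQ₁L hQ₁ hQ₁f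
    rw [map_conj_map_conj] at hzeq
    have h1 := normalizer_full_le hq hQ₁L hQ₁ hQ₁f
      (Subgroup.mem_normalizer_iff_map_conj_eq.mpr hzeq)
    have := mul_mem (inv_mem hz) h1
    rwa [inv_mul_cancel_left] at this
  · -- `n` is the only line of a Sylow `p`-subgroup of `C_L(Y)`
    have huniq : ∀ R : Subgroup G, IsPGroup p R → n ≤ R → R ≤ W → ∀ X : Subgroup G, X ≤ R →
        Nat.card X = p → X = n := fun R hR hnR hRW X hXR hX => by_contra fun hne => by
      obtain ⟨B, hBp, hnB, hBR⟩ := exists_plane_ge hR hn hnR hX hXR hne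
      exact hB ⟨B, hBp, hnB, hBR.trans hRW⟩
    have hn' : n.map (MulAut.conj c).toMonoidHom ≤ W := by
      rintro _ ⟨x, hx, rfl⟩
      refine ⟨hmemL x (hNn (Subgroup.le_normalizer hx)), ?_⟩
      exact Subgroup.mul_mem _ (Subgroup.mul_mem _ hc (hnW hx).2) (Subgroup.inv_mem _ hc)
    have hnp : IsPGroup p n := IsPGroup.of_card (n := 1) (by rw [hn, pow_one])
    obtain ⟨R, hnR, hRW, hR, hRf⟩ := exists_full hnW hnp
    obtain ⟨R', hnR', hR'W, hR', hR'f⟩ := exists_full hn' (hnp.map _)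
    obtain ⟨z, hz, hzeq⟩ := exists_conj_of_full hR'W hR' hR'f hRW hR hRf
    have h1 : n.map (MulAut.conj (z * c)).toMonoidHom = n := by
      refine huniq R hR hnR hRW _ ?_ ?_
      · rw [← map_conj_map_conj]
        exact (Subgroup.map_mono hnR').trans hzeq.le
      · rw [Subgroup.card_map_of_injective (MulAut.conj (z * c)).injective, hn]
    have h2 := hmemL _ (hNn (Subgroup.mem_normalizer_iff_map_conj_eq.mpr h1))
    rw [show c * (z * c) * c⁻¹ = c * z by group] at h2
    have := mul_mem h2 (inv_mem hz.1)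
    rwa [mul_inv_cancel_right] at this

/-- **The translate argument.** -/
theorem normalizer_le_of_meets (hG : IsMinSimpleOddOrder G) {L A : Subgroup G} (hL : IsCoatom L)
    (hp2 : p ∈ tau2 L) (hAL : A ≤ L) {l : Subgroup G} (hl : l ≤ A)
    (hlc : Nat.card l = p) (hNl : Subgroup.normalizer (l : Set G) ≤ L) (j : Subgroup G)
    (h : ∀ n : Subgroup G, n ≤ A → Nat.card n = p → n ≠ l → n ≠ j → Meets L n) :
    Subgroup.normalizer (A : Set G) ≤ L := by
  have key : ∀ v ∈ Subgroup.normalizer (A : Set G), v ∉ L →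
      l.map (MulAut.conj v).toMonoidHom = j := by
    intro v hv hvL
    by_contra hj
    set n := l.map (MulAut.conj v).toMonoidHom with hndef
    have hnA : n ≤ A := (Subgroup.map_mono hl).trans (map_conj_eq_of_mem_normalizer hv).le
    have hnc : Nat.card n = p := by
      rw [hndef, Subgroup.card_map_of_injective (MulAut.conj v).injective, hlc]
    by_cases hnl : n = l
    · exact hvL (hNl (Subgroup.mem_normalizer_iff_map_conj_eq.mpr hnl))
    obtain ⟨q, hq', Y, hq, hY, hY1, hYσ, hYn⟩ := (h n hnA hnc hnl hj).exists_pGroup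
    haveI := hq'
    have hN : Subgroup.normalizer (n : Set G) ≤ L.map (MulAut.conj v).toMonoidHom := by
      rw [hndef, ← map_normalizer_conj]
      exact Subgroup.map_mono hNl
    exact hvL (mem_of_fixed_conj hG hL hp2 hnc (hnA.trans hAL) hq hY hY1
      (hYσ.trans (Subgroup.map_subtype_le _)) hYn
      (hYn.trans ((Subgroup.centralizer_le_normalizer _).trans hN)) hN)
  intro v hv
  by_contra hvL
  have h1 := key v hv hvL
  have h2 : v * v ∉ L := fun h2 => hvL ((Subgroup.zpowers_le.mpr h2)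
    (by
      obtain ⟨k, hk⟩ := (odd_card hG (Subgroup.zpowers v))
      rw [Nat.card_zpowers] at hk
      refine Subgroup.mem_zpowers_iff.mpr ⟨(k : ℤ) + 1, ?_⟩
      rw [show ((k : ℤ) + 1) = ((k + 1 : ℕ) : ℤ) by push_cast; ring, zpow_natCast, ← pow_two,
        ← pow_mul, show 2 * (k + 1) = orderOf v + 1 by omega, pow_succ, pow_orderOf_eq_one,
        one_mul]))
  have h3 := key (v * v) (mul_mem hv hv) h2
  rw [← map_conj_map_conj, h1] at h3
  have h4 : l = j := by
    refine Subgroup.map_injective (MulAut.conj v).injective (h1.trans h3.symm)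
  exact hvL (hNl (Subgroup.mem_normalizer_iff_map_conj_eq.mpr (h1.trans h4.symm)))

/-- **The Frobenius lemma.** -/
theorem exists_line_of_frob {A : Subgroup G} (hA : IsPlane p A) {q : ℕ} [Fact q.Prime] (hqp : q ≠ p)
    {T H : Subgroup G} [Group.IsSolvable H] (hT : IsPGroup q T)
    (hAT : A ≤ Subgroup.normalizer (T : Set G)) (hTC : T ⊓ Subgroup.centralizer (A : Set G) = ⊥)
    (hAH : A ≤ Subgroup.normalizer (H : Set G)) (hTH : T ≤ Subgroup.normalizer (H : Set G))
    (hpH : ¬ p ∣ Nat.card H) (hqH : ¬ q ∣ Nat.card H)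
    (hnc : ¬ T ≤ Subgroup.centralizer (H : Set G)) :
    ∃ j : Subgroup G, j ≤ A ∧ Nat.card j = p ∧ ∀ n : Subgroup G, n ≤ A → Nat.card n = p → n ≠ j →
      H ⊓ Subgroup.centralizer (n : Set G) ≠ ⊥ := by
  have hpT : ¬ p ∣ Nat.card T := fun hd => hqp (eq_of_dvd_card_pGroup hT hp.out hd).symm
  obtain ⟨j, hj, hjc, hU⟩ : ∃ j : Subgroup G, j ≤ A ∧ Nat.card j = p ∧
      ¬ T ⊓ Subgroup.centralizer (j : Set G) ≤ Subgroup.centralizer (H : Set G) := by
    by_contra h
    exact hnc (hA.generate hAT hpT fun n hn hnc' => not_not.mp fun h1 => h ⟨n, hn, hnc', h1⟩)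
  refine ⟨j, hj, hjc, fun n hn hnc' hne hHn => hU ?_⟩
  set U := T ⊓ Subgroup.centralizer (j : Set G) with hUdef
  have hnU : n ≤ Subgroup.normalizer (U : Set G) :=
    le_normalizer_inf' (hn.trans hAT)
      (le_normalizer_centralizer (hn.trans (hA.le_normalizer_of_le hj)))
  have hfix : ∀ u ∈ U, ∀ e ∈ n, e ≠ 1 → e * u = u * e → u = 1 := by
    intro u hu e he he1 heu
    have huA : u ∈ Subgroup.centralizer (A : Set G) := by
      have hsup : j ⊔ n = A := hA.sup_eq hj hjc hn hnc' (Ne.symm hne)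
      have hn2 : Subgroup.zpowers e = n := by
        refine Subgroup.eq_of_le_of_card_ge (Subgroup.zpowers_le.mpr he) ?_
        rw [hnc', hA.card_zpowers (hn he) he1]
      rw [← hsup]
      refine Subgroup.mem_centralizer_iff.mpr fun a ha => ?_
      have : j ⊔ n ≤ Subgroup.centralizer ({u} : Set G) := by
        refine sup_le (fun x hx => Subgroup.mem_centralizer_singleton_iff.mpr ?_) ?_
        · exact Subgroup.mem_centralizer_iff.mp hu.2 x hx
        · rw [← hn2]
          exact Subgroup.zpowers_le.mpr (Subgroup.mem_centralizer_singleton_iff.mpr heu)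
      exact Subgroup.mem_centralizer_singleton_iff.mp (this ha)
    exact Subgroup.mem_bot.mp (hTC.le ⟨hu.1, huA⟩)
  have hUn : U ⊓ n = ⊥ := by
    refine (Subgroup.eq_bot_iff_forall _).mpr fun x hx => ?_
    by_contra hx1
    exact hx1 (hfix x hx.1 x hx.2 hx1 rfl)
  have hform := OddLocal.FrobFormula.card_formula_internal U n H hUn hnU
    (fun e he he1 u hu => hfix u hu e he he1)
    (sup_le (inf_le_left.trans hTH) (hn.trans hAH)) (by
      rw [OddLocal.FrobFormula.card_sup_eq_mul U n hnU hUn, hnc']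
      exact Nat.Coprime.mul_left (coprime_of_isPGroup (hT.to_le inf_le_left) hqH)
        ((hp.out.coprime_iff_not_dvd).mpr hpH))
  have h2 : Nat.card ↥(H ⊓ Subgroup.centralizer (n : Set G)) = 1 := Subgroup.card_eq_one.mpr hHn
  have h1 : Nat.card ↥(H ⊓ Subgroup.centralizer ((U ⊔ n : Subgroup G) : Set G)) = 1 := by
    refine Subgroup.card_eq_one.mpr (eq_bot_iff.mpr ?_)
    have hle : Subgroup.centralizer ((U ⊔ n : Subgroup G) : Set G) ≤
        Subgroup.centralizer (n : Set G) :=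
      Subgroup.centralizer_le (show (n : Set G) ⊆ ((U ⊔ n : Subgroup G) : Set G) from
        SetLike.coe_subset_coe.mpr le_sup_right)
    exact le_trans (inf_le_inf le_rfl hle) (le_of_eq hHn)
  simp only [h1, h2, one_pow, one_mul] at hform
  have he := Subgroup.eq_of_le_of_card_ge
    (inf_le_left : H ⊓ Subgroup.centralizer (U : Set G) ≤ H) hform.le
  exact Subgroup.le_centralizer_iff.mp (he.ge.trans inf_le_right)

end CfsgLib.Uniqueness
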