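import Cfsg.Agent.Uniqueness.TauTwoConj
import Cfsg.Agent.PGroup.Normal
import Cfsg.Agent.PGroup.UniqueOrderP
import Cfsg.Agent.S1450
import Cfsg.Agent.S1451

/-!
Bender–Glauberman 11–12: the central line of a non-abelian Sylow subgroup, and the lemma on
`q`-subgroups outside `σ(L)` normalised by a plane.
-/

set_option autoImplicit false
set_option linter.style.haveILetI false

open scoped commutatorElement

namespace CfsgLib.Uniqueness

open Cfsg CfsgLib CfsgLib.Coprime CfsgLib.Signalizer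

universe u

variable {G : Type u} [Group G] [Finite G] {p : ℕ} [hp : Fact p.Prime]

omit hp in
/-- `M_α` contains every `α(M)`-subgroup of `M`. -/
theorem le_alphaCore (hG : IsMinSimpleOddOrder G) {M : Subgroup G} (hM : IsCoatom M)
    {X : Subgroup G} (hX : X ≤ M) (hα : ∀ r : ℕ, r.Prime → r ∣ Nat.card X → r ∈ alpha M) :
    X ≤ alphaCore M := by
  set N := piCore (alpha M) ↥M
  have h1 : N.relIndex (X.subgroupOf M) = 1 := by
    refine Nat.eq_one_iff_not_exists_prime_dvd.mpr fun r hr hd => ?_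
    have hrX := hd.trans (Subgroup.relIndex_dvd_card _ _)
    rw [Nat.card_congr (Subgroup.subgroupOfEquivOfLe hX).toEquiv] at hrX
    refine (alphaCore_hall hG hM).1.2.2 r hr (hα r hr hrX) ?_
    rw [alphaCore, Subgroup.relIndex, Subgroup.subgroupOf,
      Subgroup.comap_map_eq_self_of_injective M.subtype_injective]
    exact hd.trans (Subgroup.relIndex_dvd_index_of_normal _ _)
  exact fun x hx => ⟨⟨x, hX hx⟩, Subgroup.relIndex_eq_one.mp h1 hx, rfl⟩

omit hp in
theorem not_dvd_alphaCore {L : Subgroup G} {r : ℕ} (hr : r.Prime) (hrα : r ∉ alpha L) :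
    ¬ r ∣ Nat.card (alphaCore L) := fun hd => hrα (by
  rw [alphaCore, Subgroup.card_map_of_injective L.subtype_injective] at hd
  exact Constrained.piCore_isPiCard r hr hd)

omit [Finite G] hp in
theorem le_normalizer_alphaCore (L : Subgroup G) : L ≤ Subgroup.normalizer (alphaCore L : Set G) :=
  le_normalizer_map_characteristic Subgroup.le_normalizer _

omit [Finite G] hp in
theorem sigma_of_normalizer_le {M P : Subgroup G} {r : ℕ} [hr : Fact r.Prime] (hd : r ∣ Nat.card M)
    (hP : IsPGroup r P) (hPM : P ≤ M) (hPf : ¬ r ∣ P.relIndex M)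
    (hN : Subgroup.normalizer (P : Set G) ≤ M) : r ∈ sigma M := by
  refine ⟨hr.out, hd, (hP.comap_subtype : IsPGroup r (P.subgroupOf M)).toSylow hPf, ?_⟩
  show Subgroup.normalizer (((P.subgroupOf M).map M.subtype : Subgroup G) : Set G) ≤ M
  rwa [Subgroup.subgroupOf_map_subtype, inf_eq_left.mpr hPM]

theorem exists_plane_in_full {M P : Subgroup G} (hr2 : PRankLE p 2 M) (hr1 : ¬ PRankLE p 1 M)
    (hP : IsPGroup p P) (hPM : P ≤ M) (hPf : ¬ p ∣ P.relIndex M) :
    ∃ A : Subgroup G, IsPlane p A ∧ A ≤ P := by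
  obtain ⟨A, hAM, hAe, hAc⟩ := exists_elementary_sq hr2 hr1
  obtain ⟨R, hAR, hRM, hR, hRf⟩ := exists_full hAM (isPGroup_of_elementary hAe)
  obtain ⟨z, -, hzeq⟩ := exists_conj_of_full hRM hR hRf hPM hP hPf
  exact ⟨_, (⟨hAe, hAc⟩ : IsPlane p A).map_conj z, (Subgroup.map_mono hAR).trans hzeq.le⟩

/-- **The central line** of a non-abelian Sylow subgroup for `p ∈ τ₂(M)`. -/
theorem exists_central_line (hG : IsMinSimpleOddOrder G) {M P : Subgroup G} (hM : IsCoatom M)
    (hp2 : p ∈ tau2 M) (hP : IsPGroup p P) (hPM : P ≤ M) (hPf : ¬ p ∣ P.relIndex M)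
    (hna : ¬ IsMulCommutative P) :
    ∃ Z₀ : Subgroup G, Nat.card Z₀ = p ∧ Z₀ ≤ ⁅P, P⁆ ∧
      (∀ z ∈ Z₀, ∀ y ∈ P, y * z = z * y) ∧
      (∀ x ∈ P, x ^ p = 1 → (∀ y ∈ P, y * x = x * y) → x ∈ Z₀) ∧
      (∀ B : Subgroup G, IsPlane p B → B ≤ P → Z₀ ≤ B) ∧
      (∀ B : Subgroup G, IsPlane p B → B ≤ P → ∀ m n : Subgroup G, m ≤ B → Nat.card m = p →
        m ≠ Z₀ → n ≤ B → Nat.card n = p → n ≠ Z₀ →
          ∃ g ∈ P, m.map (MulAut.conj g).toMonoidHom = n) ∧
      ¬ alphaCore M ≤ Subgroup.centralizer (Z₀ : Set G) := by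
  obtain ⟨A, hA, hAP⟩ := exists_plane_in_full hp2.2.2.1 hp2.2.2.2 hP hPM hPf
  obtain ⟨Z₀, -, hZc, hZA, -, -, hiff, -, -, -⟩ := plane_structure hG hP hna hAP hA.elem hA.card
    (hA.maximal hG hM hp2 (hAP.trans hPM))
  have hZP : Z₀ ≤ P := hZA.trans hAP
  have hcen : ∀ z ∈ Z₀, ∀ y ∈ P, y * z = z * y := fun z hz =>
    (hiff z (hZP hz) ((elementary_of_card hZc).2 z hz)).mpr hz
  have hplane : ∀ B : Subgroup G, IsPlane p B → B ≤ P → Z₀ ≤ B ∧
      ∀ m n : Subgroup G, m ≤ B → Nat.card m = p → m ≠ Z₀ → n ≤ B → Nat.card n = p → n ≠ Z₀ →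
        ∃ g ∈ P, m.map (MulAut.conj g).toMonoidHom = n := by
    intro B hB hBP
    obtain ⟨Z, -, hZc', hZB, -, -, hiff', -, -, htr⟩ := plane_structure hG hP hna hBP hB.elem hB.card
      (hB.maximal hG hM hp2 (hBP.trans hPM))
    have he : Z₀ = Z := Subgroup.eq_of_le_of_card_ge
      (fun z hz => (hiff' z (hZP hz) ((elementary_of_card hZc).2 z hz)).mp (hcen z hz))
      (by rw [hZc, hZc'])
    refine ⟨he ▸ hZB, fun m n hm hmc hmne hn hnc hnne => ?_⟩
    obtain ⟨g, hgP, -, hg⟩ := htr m n hm hmc (he ▸ hmne) hn hnc (he ▸ hnne)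
    exact ⟨g, hgP, hg⟩
  refine ⟨Z₀, hZc, ?_, hcen, fun x hx hxp h => (hiff x hx hxp).mp h, fun B hB hBP => (hplane B hB hBP).1,
    fun B hB hBP => (hplane B hB hBP).2, ?_⟩
  · -- `Z₀ ≤ [P, P]`
    have hK : (commutator P) ≠ ⊥ := fun h => hna (IsMulCommutative.of_comm fun a b => by
      have hm : ⁅a, b⁆ ∈ commutator P :=
        Subgroup.commutator_mem_commutator (Subgroup.mem_top a) (Subgroup.mem_top b)
      rw [h, Subgroup.mem_bot] at hm
      exact commutatorElement_eq_one_iff_mul_comm.mp hm)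
    have hne := PGroup.inf_center_ne_bot hP (commutator P) hK
    obtain ⟨x, hx⟩ := exists_prime_orderOf_dvd_card'
      (G := ↥(commutator P ⊓ Subgroup.center P)) p (by
        obtain ⟨k, hk⟩ := IsPGroup.iff_card.mp (hP.to_subgroup (commutator P ⊓ Subgroup.center P))
        rw [hk]
        refine dvd_pow_self p fun h => hne (Subgroup.card_eq_one.mp ?_)
        rw [hk, h, pow_zero])
    have hxo : orderOf (((x : P) : G)) = p := by rw [Subgroup.orderOf_coe, Subgroup.orderOf_coe, hx]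
    have hxZ : ((x : P) : G) ∈ Z₀ :=
      (hiff _ (x : P).2 (hxo ▸ pow_orderOf_eq_one _)).mp fun y hy =>
        congrArg Subtype.val (Subgroup.mem_center_iff.mp x.2.2 ⟨y, hy⟩)
    have hxeq : Subgroup.zpowers ((x : P) : G) = Z₀ :=
      Subgroup.eq_of_le_of_card_ge (Subgroup.zpowers_le.mpr hxZ) (by rw [hZc, Nat.card_zpowers, hxo])
    rw [← hxeq, Subgroup.zpowers_le, ← Subgroup.map_subtype_commutator]
    exact Subgroup.mem_map_of_mem P.subtype x.2.1
  intro hle
  have hne : P ≠ ⊥ := fun h => hA.ne_bot (le_bot_iff.mp (h ▸ hAP))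
  have hpM : p ∣ Nat.card M := by
    have h1 : p ∣ Nat.card A := hA.card ▸ dvd_pow_self p two_ne_zero
    exact h1.trans (Subgroup.card_dvd_of_le (hAP.trans hPM))
  refine hp2.2.1 (sigma_of_normalizer_le hpM hP hPM hPf ?_)
  by_cases hα : ∃ q, q ∈ alpha M
  · obtain ⟨q, hq⟩ := hα
    haveI := Fact.mk hq.1
    obtain ⟨E, hEM, hE, hEc⟩ := exists_elementary_of_not_pRankLE hq.2
    have hEα : E ≤ alphaCore M := le_alphaCore hG hM hEM fun r hr hd =>
      eq_of_dvd_card_pGroup (isPGroup_of_elementary hE) hr hd ▸ hq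
    have hr : ¬ RankLE 1 ↥(alphaCore M ⊓ Subgroup.centralizer (Z₀ : Set G)) :=
      not_rankLE_of_elementary hq.1 (le_inf hEα (hEα.trans hle)) hE
        (lt_of_le_of_lt (Nat.pow_le_pow_right hq.1.pos (by norm_num)) hEc)
    obtain ⟨M', ⟨hM', -⟩, huniq⟩ := unique_centralizer_of_alpha hG hM (hZP.trans hPM)
      (fun r hr hd h => hp2.2.1 (by
        rw [hZc] at hd
        rw [← (Nat.prime_dvd_prime_iff_eq hr hp.out).mp hd]
        haveI := Fact.mk hr
        exact mem_sigma_of_alpha hG hM h)) hr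
    have hMM' := huniq M ⟨hM, inf_le_left⟩
    have hZ1 : Z₀ ≠ ⊥ := fun h => by
      rw [h, Subgroup.card_bot] at hZc
      exact hp.out.one_lt.ne hZc
    have hNZ : Subgroup.normalizer (Z₀ : Set G) ≤ M := le_of_unique
      (fun H h1 h2 => (huniq H ⟨h1, h2⟩).trans hMM'.symm)
      (inf_le_right.trans (Subgroup.centralizer_le_normalizer _))
      (normalizer_ne_top hG hZ1 (ne_top_of_le_coatom hM (hZP.trans hPM)))
    refine le_trans (le_normalizer_of_conj_mem fun g hg z hz => ?_) hNZ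
    have hgz : g * z * g⁻¹ ∈ P := (Subgroup.mem_normalizer_iff.mp hg z).mp (hZP hz)
    refine (hiff _ hgz ?_).mp fun y hy => ?_
    · rw [← MulAut.conj_apply, ← map_pow, (elementary_of_card hZc).2 z hz, map_one]
    · have hy' : g⁻¹ * y * g ∈ P := (Subgroup.mem_normalizer_iff''.mp hg y).mp hy
      calc y * (g * z * g⁻¹) = g * ((g⁻¹ * y * g) * z) * g⁻¹ := by group
        _ = g * (z * (g⁻¹ * y * g)) * g⁻¹ := by rw [hcen z hz _ hy']
        _ = g * z * g⁻¹ * y := by group
  · -- `[P, P]` is normal in `M`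
    haveI := solvable_of_ne_top hG hM.1
    set S : Sylow p M := (hP.comap_subtype : IsPGroup p (P.subgroupOf M)).toSylow hPf
    have hn := (Cfsg.Agent.S1451.result (odd_card hG M)
      (Or.inl fun q hq => not_not.mp fun h => hα ⟨q, hq, h⟩)).2.1 p S (commutator ↥(S : Subgroup M))
      inferInstance (Subgroup.map_subtype_commutator _).le
    rw [Subgroup.map_subtype_commutator] at hn
    have hSP : (S : Subgroup M).map M.subtype = P := by
      show (P.subgroupOf M).map M.subtype = P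
      rw [Subgroup.subgroupOf_map_subtype, inf_eq_left.mpr hPM]
    have hD : (⁅(S : Subgroup M), (S : Subgroup M)⁆).map M.subtype = ⁅P, P⁆ := by
      rw [Subgroup.map_commutator, hSP]
    have hMD : M ≤ Subgroup.normalizer ((⁅P, P⁆ : Subgroup G) : Set G) := by
      haveI := hn
      have h := Subgroup.le_normalizer_map (H := ⁅(S : Subgroup M), (S : Subgroup M)⁆) M.subtype
      rw [Subgroup.normalizer_eq_top (H := ⁅(S : Subgroup M), (S : Subgroup M)⁆),
        ← MonoidHom.range_eq_map, Subgroup.range_subtype, hD] at h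
      exact h
    have hD1 : ⁅P, P⁆ ≠ ⊥ := fun h => hna (IsMulCommutative.of_comm fun a b => Subtype.ext (by
      have hm : ⁅(a : G), (b : G)⁆ ∈ ⁅P, P⁆ := Subgroup.commutator_mem_commutator a.2 b.2
      rw [h, Subgroup.mem_bot] at hm
      exact commutatorElement_eq_one_iff_mul_comm.mp hm))
    rw [← normalizer_eq_of_le hG hM hD1 (ne_top_of_le_coatom hM
      ((Subgroup.commutator_le_self P).trans hPM)) hMD]
    intro g hg
    rw [Subgroup.mem_normalizer_iff_map_conj_eq, Subgroup.map_commutator,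
      Subgroup.mem_normalizer_iff_map_conj_eq.mp hg]

/-- A plane of `L` whose centralizer lies in `L` cannot centralise `L_σ`. -/
theorem not_sigmaCore_le_centralizer (hG : IsMinSimpleOddOrder G) {L B : Subgroup G}
    (hL : IsCoatom L) (hp2 : p ∈ tau2 L) (hB : IsPlane p B)
    (hC : Subgroup.centralizer (B : Set G) ≤ L) :
    ¬ sigmaCore L ≤ Subgroup.centralizer (B : Set G) := by
  intro hle
  have hBL : B ≤ L := hB.le_centralizer.trans hC
  have hmax := hB.maximal hG hL hp2 hBL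
  obtain ⟨S, hBS, hSL, hS, hSf⟩ := exists_full hBL hB.isPGroup
  by_cases hab : IsMulCommutative S
  · obtain ⟨r, hr⟩ := sigma_nonempty hG hL
    have hrS : r ∣ Nat.card (sigmaCore L) := by
      have h1 := (sigmaCore_hall hG hL).2.2 r hr.1 hr
      rcases hr.1.dvd_mul.mp (Subgroup.card_mul_index (sigmaCore L) ▸
        hr.2.1.trans (Subgroup.card_subgroup_dvd_card L)) with h | h
      · exact h
      · exact absurd h h1
    have hN := normalizer_plane_le hG hB hmax hL hp2.2.1 hC hr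
      (hrS.trans (Subgroup.card_dvd_of_le hle))
    have hpL : p ∣ Nat.card L := by
      have h1 : p ∣ Nat.card B := hB.card ▸ dvd_pow_self p two_ne_zero
      exact h1.trans (Subgroup.card_dvd_of_le hBL)
    refine hp2.2.1 (sigma_of_normalizer_le hpL hS hSL hSf (le_trans ?_ hN))
    refine le_normalizer_of_conj_mem fun g hg b hb => ?_
    have hgb : g * b * g⁻¹ ∈ S := (Subgroup.mem_normalizer_iff.mp hg b).mp (hBS hb)
    refine mem_of_maximal_elementary hB.elem hmax ?_ fun a ha => ?_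
    · rw [← MulAut.conj_apply, ← map_pow, hB.elem.2 b hb, map_one]
    · exact congrArg Subtype.val (hab.is_comm.comm ⟨a, hBS ha⟩ ⟨_, hgb⟩)
  · obtain ⟨Z₀, -, -, -, -, hZB, -, hα⟩ := exists_central_line hG hL hp2 hS hSL hSf hab
    exact hα (((alphaCore_hall hG hL).2.2.1.trans hle).trans (Subgroup.centralizer_le (hZB B hB hBS)))

/-- A non-trivial power of a generator of the automorphisms of a group of prime order. -/
theorem dvd_sub_one_of_acts {A Z : Subgroup G} (hA : IsPGroup p A) {q : ℕ} [hq : Fact q.Prime]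
    (hZ : Nat.card Z = q) (hAZ : A ≤ Subgroup.normalizer (Z : Set G))
    (hnc : ¬ A ≤ Subgroup.centralizer (Z : Set G)) : p ∣ q - 1 := by
  haveI : IsCyclic Z := isCyclic_of_prime_card (p := q) hZ
  let φ : A →* MulAut Z := Z.normalizerMonoidHom.comp (Subgroup.inclusion hAZ)
  have h1 : φ.range ≠ ⊥ := fun h => hnc fun a ha => by
    have h2 : φ ⟨a, ha⟩ ∈ φ.range := ⟨_, rfl⟩
    rw [h, Subgroup.mem_bot] at h2
    refine Subgroup.mem_centralizer_iff.mpr fun z hz => ?_
    have h3 := congrArg Subtype.val (DFunLike.congr_fun h2 ⟨z, hz⟩)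
    exact (mul_inv_eq_iff_eq_mul.mp (show a * z * a⁻¹ = z from h3)).symm
  obtain ⟨k, hk⟩ := IsPGroup.iff_card.mp
    (hA.of_surjective φ.rangeRestrict φ.rangeRestrict_surjective)
  have h2 : p ∣ Nat.card φ.range := by
    rw [hk]
    refine dvd_pow_self p fun hk0 => h1 (Subgroup.card_eq_one.mp ?_)
    rw [hk, hk0, pow_zero]
  have h3 := h2.trans (Subgroup.card_subgroup_dvd_card φ.range)
  rwa [IsCyclic.card_mulAut, hZ, Nat.totient_prime hq.out] at h3


/-- **The core lemma.** A `q`-subgroup `Y = [Y, A]` of `L`, `q ∉ σ(L)`, inside an invariant Sylow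
subgroup `S` of `O_{p'}(L)` without fixed points forces all lines but one to meet `L_σ`. -/
theorem exists_line_of_core (hG : IsMinSimpleOddOrder G) {L A : Subgroup G} (hL : IsCoatom L)
    (hp2 : p ∈ tau2 L) (hA : IsPlane p A) (hAL : A ≤ L) {q : ℕ} [hq : Fact q.Prime] (hqp : q ≠ p)
    (hqσ : q ∉ sigma L) {S Y : Subgroup G} (hS : IsPGroup q S) (hSO : S ≤ coreOf p L)
    (hSf : ¬ q ∣ S.relIndex (coreOf p L)) (hAS : A ≤ Subgroup.normalizer (S : Set G))
    (hSC : S ⊓ Subgroup.centralizer (A : Set G) = ⊥) (hYS : Y ≤ S) (hY1 : Y ≠ ⊥)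
    (hYc : Y ≤ ⁅Y, A⁆) :
    ∃ j : Subgroup G, j ≤ A ∧ Nat.card j = p ∧
      ∀ n : Subgroup G, n ≤ A → Nat.card n = p → n ≠ j → Meets L n := by
  haveI : Group.IsSolvable L := solvable_of_ne_top hG hL.1
  have hSL : S ≤ L := hSO.trans (coreOf_le L)
  have hσL : sigmaCore L ≤ L := Subgroup.map_subtype_le _
  haveI : Group.IsSolvable (sigmaCore L) := isSolvable_of_le hσL inferInstance
  by_cases hc : S ≤ Subgroup.centralizer (sigmaCore L : Set G)
  swap
  · obtain ⟨j, hj, hjc, h⟩ := exists_line_of_frob hA hqp hS hAS hSC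
      (hAL.trans (le_normalizer_sigmaCore L)) (hSL.trans (le_normalizer_sigmaCore L))
      (not_dvd_sigmaCore hp.out hp2.2.1) (not_dvd_sigmaCore hq.out hqσ) hc
    exact ⟨j, hj, hjc, h⟩
  exfalso
  -- the nilpotent group `D = C_{L'}(L_σ)`
  set D := ⁅L, L⁆ ⊓ Subgroup.centralizer (sigmaCore L : Set G) with hDdef
  have hDL : D ≤ L := inf_le_left.trans (Subgroup.commutator_le_self L)
  have hLD : L ≤ Subgroup.normalizer (D : Set G) := le_normalizer_inf'
    (le_normalizer_of_conj_mem fun g hg x hx => by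
      have h := Subgroup.map_commutator L L (MulAut.conj g).toMonoidHom
      rw [map_conj_eq_of_mem_normalizer (Subgroup.le_normalizer hg)] at h
      exact h.le ⟨x, hx, rfl⟩)
    (le_normalizer_centralizer (le_normalizer_sigmaCore L))
  set N := piCore (alpha L) ↥L with hN
  haveI := isNilpotent_commutator_quotient hG hL.1
  haveI hDn : Group.IsNilpotent D := by
    let φ : D →* commutator (↥L ⧸ N) :=
      ((QuotientGroup.mk' N).comp (Subgroup.inclusion hDL)).codRestrict _ fun d => by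
        have h1 : (Subgroup.inclusion hDL d) ∈ commutator ↥L := by
          have h2 := d.2.1
          rw [← Subgroup.map_subtype_commutator] at h2
          obtain ⟨y, hy, hye⟩ := h2
          rwa [show Subgroup.inclusion hDL d = y from Subtype.ext hye.symm]
        have h3 := Subgroup.mem_map_of_mem (QuotientGroup.mk' N) h1
        rw [commutator_def, Subgroup.map_commutator,
          Subgroup.map_top_of_surjective _ (QuotientGroup.mk'_surjective N)] at h3
        exact h3
    refine Subgroup.isNilpotent_of_ker_le_center φ ?_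
    intro d hd
    have h1 : (Subgroup.inclusion hDL d) ∈ N :=
      (QuotientGroup.eq_one_iff _).mp (congrArg Subtype.val hd)
    have h2 : (d : G) ∈ sigmaCore L :=
      (alphaCore_hall hG hL).2.2.1 (Subgroup.mem_map_of_mem L.subtype h1)
    exact Subgroup.mem_center_iff.mpr fun e => Subtype.ext
      (Subgroup.mem_centralizer_iff.mp e.2.2 _ h2).symm
  have hYD : Y ≤ D := le_inf (hYc.trans (Subgroup.commutator_mono (hYS.trans hSL) hAL))
    (hYS.trans hc)
  -- `X = O_q(D)`
  set X := rCore q D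
  have hXD : X ≤ D := rCore_le q D
  have hLX : L ≤ Subgroup.normalizer (X : Set G) := le_normalizer_map_characteristic hLD _
  have hYX : Y ≤ X := fun y hy => ⟨⟨y, hYD hy⟩, le_pCore_of_le_nilpotent
    (F := (⊤ : Subgroup D)) inferInstance (Group.nilpotent_of_mulEquiv Subgroup.topEquiv.symm)
    ((hS.to_le hYS).comap_subtype) le_top (show (⟨y, hYD hy⟩ : D) ∈ Y.subgroupOf D from hy), rfl⟩
  have hXp : IsPGroup q X := isPGroup_rCore D
  have hpq : ¬ p ∣ Nat.card X := fun hd => hqp (eq_of_dvd_card_pGroup hXp hp.out hd).symm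
  have hXO : X ≤ coreOf p L := le_coreOf (hXD.trans hDL) hLX hpq
  have hXS : X ≤ S := by
    have h := eq_of_full hSf (le_sup_right : S ≤ X ⊔ S) (sup_le hXO hSO)
      (IsPGroup.to_sup_of_normal_right' hS hXp (hSL.trans hLX) |> fun h => by rwa [sup_comm] at h)
    exact h ▸ le_sup_left
  -- `Z₁ = Ω₁ Z(X)`
  set W := X ⊓ Subgroup.centralizer (X : Set G)
  have hWc : ∀ a ∈ W, ∀ b ∈ W, a * b = b * a := fun a ha b hb =>
    Subgroup.mem_centralizer_iff.mp hb.2 a ha.1
  let Z₁ : Subgroup G :=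
    { carrier := {x | x ∈ W ∧ x ^ q = 1}
      one_mem' := ⟨one_mem _, one_pow q⟩
      mul_mem' := fun {a b} ha hb => ⟨mul_mem ha.1 hb.1, by
        rw [(show Commute a b from hWc a ha.1 b hb.1).mul_pow, ha.2, hb.2, one_mul]⟩
      inv_mem' := fun {a} ha => ⟨inv_mem ha.1, by rw [inv_pow, ha.2, inv_one]⟩ }
  have hZW : Z₁ ≤ W := fun x hx => hx.1
  have hZ1 : Z₁ ≠ ⊥ := by
    haveI : Nontrivial X := (Subgroup.nontrivial_iff_ne_bot X).mpr fun h =>
      hY1 (le_bot_iff.mp (h ▸ hYX))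
    haveI := hXp.center_nontrivial
    obtain ⟨z, hz⟩ := exists_prime_orderOf_dvd_card' (G := Subgroup.center X) q (by
      obtain ⟨k, hk⟩ := IsPGroup.iff_card.mp (hXp.to_subgroup (Subgroup.center X))
      rw [hk]
      refine dvd_pow_self q fun h => ?_
      rw [h, pow_zero] at hk
      exact absurd hk (Finite.one_lt_card (α := Subgroup.center X)).ne')
    have hzo : orderOf ((z : X) : G) = q := by
      rw [Subgroup.orderOf_coe, Subgroup.orderOf_coe, hz]
    intro hb
    have hmem : ((z : X) : G) ∈ Z₁ := ⟨⟨(z : X).2, Subgroup.mem_centralizer_iff.mpr fun y hy =>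
      congrArg Subtype.val (Subgroup.mem_center_iff.mp z.2 ⟨y, hy⟩)⟩, hzo ▸ pow_orderOf_eq_one _⟩
    rw [hb, Subgroup.mem_bot] at hmem
    rw [hmem, orderOf_one] at hzo
    exact hq.out.one_lt.ne hzo
  have hZe : IsElementaryAbelian q Z₁ := ⟨IsMulCommutative.of_comm fun a b => Subtype.ext
    (hWc a a.2.1 b b.2.1), fun x hx => hx.2⟩
  have hLZ : L ≤ Subgroup.normalizer (Z₁ : Set G) := le_normalizer_of_conj_mem fun g hg x hx =>
    ⟨(Subgroup.mem_normalizer_iff.mp
      (le_normalizer_inf' hLX (le_normalizer_centralizer hLX) hg) x).mp hx.1,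
      by rw [← MulAut.conj_apply, ← map_pow, hx.2, map_one]⟩
  have hZS : Z₁ ≤ S := (hZW.trans inf_le_left).trans hXS
  have hNZ : Subgroup.normalizer (Z₁ : Set G) = L :=
    normalizer_eq_of_le hG hL hZ1 (ne_top_of_le_coatom hL (hZS.trans hSL)) hLZ
  have hr2 : PRankLE q 2 L := not_not.mp fun h => hqσ (mem_sigma_of_alpha hG hL ⟨hq.out, h⟩)
  have key : ∀ B : Subgroup G, IsPlane q B → B ≤ S → Z₁ ≤ B → False := fun B hB hBS hZB => by
    refine not_sigmaCore_le_centralizer hG hL
      (hB.tau2_of_not_sigma hG hL (hBS.trans hSL) hqσ) hB ?_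
      (Subgroup.le_centralizer_iff.mp (hBS.trans hc))
    exact ((Subgroup.centralizer_le hZB).trans (Subgroup.centralizer_le_normalizer _)).trans hNZ.le
  obtain ⟨k, hk⟩ := IsPGroup.iff_card.mp (hXp.to_le (hZW.trans inf_le_left))
  have hk0 : k ≠ 0 := fun h => hZ1 (Subgroup.card_eq_one.mp (by rw [hk, h, pow_zero]))
  have hk2 : k ≤ 2 := by
    by_contra hgt
    exact not_pRankLE_of_elementary (hZS.trans hSL) hZe
      (hk ▸ Nat.pow_lt_pow_right hq.out.one_lt (by omega : 2 < k)) hr2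
  rcases (show k = 1 ∨ k = 2 by omega) with rfl | rfl
  swap
  · exact key Z₁ ⟨hZe, hk⟩ hZS le_rfl
  rw [pow_one] at hk
  haveI hqne : Nontrivial S := (Subgroup.nontrivial_iff_ne_bot S).mpr fun h =>
    hZ1 (le_bot_iff.mp (h ▸ hZS))
  have hq2 : q ≠ 2 := ne_two_of_isPGroup hG hS ((Subgroup.nontrivial_iff_ne_bot S).mp hqne)
  by_cases hcyc : IsCyclic S
  · -- `q > p`, so `S` is a Sylow subgroup of `L`
    have hdvd : p ∣ q - 1 := dvd_sub_one_of_acts hA.isPGroup hk (hAL.trans hLZ) fun h =>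
      hZ1 (le_bot_iff.mp (hSC ▸ le_inf hZS (Subgroup.le_centralizer_iff.mp h)))
    have hpq : p < q := by
      have h1 := Nat.le_of_dvd (by have := hq.out.two_le; omega) hdvd
      omega
    have hpL : p ∣ Nat.card L := by
      have h1 : p ∣ Nat.card A := hA.card ▸ dvd_pow_self p two_ne_zero
      exact h1.trans (Subgroup.card_dvd_of_le hAL)
    have hSfL : ¬ q ∣ S.relIndex L := by
      rw [← Subgroup.relIndex_mul_relIndex S (coreOf p L) L hSO (coreOf_le L)]
      refine fun h => (hq.out.dvd_mul.mp h).elim hSf fun h' => not_le.mpr hpq ?_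
      refine (Cfsg.Agent.S1450.result (odd_card hG L) p hpL hp2.2.2.1).1 q hq.out ?_
      rwa [coreOf, Subgroup.relIndex, Subgroup.subgroupOf,
        Subgroup.comap_map_eq_self_of_injective L.subtype_injective] at h'
    have hqL : q ∣ Nat.card L := hk ▸ Subgroup.card_dvd_of_le (hZS.trans hSL)
    refine hqσ (sigma_of_normalizer_le hqL hS hSL hSfL (le_trans ?_ hNZ.le))
    refine le_normalizer_of_conj_mem fun g hg x hx => ?_
    haveI := hcyc
    let e : S →* S :=
      { toFun := fun w => ⟨g * w * g⁻¹, (Subgroup.mem_normalizer_iff.mp hg w).mp w.2⟩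
        map_one' := Subtype.ext (by simp)
        map_mul' := fun a b => Subtype.ext (by
          show g * (a * b : G) * g⁻¹ = (g * a * g⁻¹) * (g * b * g⁻¹)
          group) }
    obtain ⟨m, hm⟩ := MonoidHom.map_cyclic e
    have h := congrArg Subtype.val (hm ⟨x, hZS hx⟩)
    rw [show g * x * g⁻¹ = ((e ⟨x, hZS hx⟩ : S) : G) from rfl, h]
    exact Z₁.zpow_mem hx m
  · obtain ⟨E, hEn, hE, hEc⟩ := PGroup.exists_normal_elementary_sq hq2 hS hcyc
    have hB : IsPlane q (E.map S.subtype) := ⟨⟨comm_map _ hE.1, by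
        rintro _ ⟨e, he, rfl⟩
        rw [← map_pow, hE.2 e he, map_one]⟩,
      by rw [Subgroup.card_map_of_injective S.subtype_injective, hEc]⟩
    have hBS : E.map S.subtype ≤ S := Subgroup.map_subtype_le _
    refine key _ hB hBS fun z hz => ?_
    refine mem_of_maximal_elementary hB.elem
      (hB.maximal hG hL (hB.tau2_of_not_sigma hG hL (hBS.trans hSL) hqσ) (hBS.trans hSL)) hz.2
      fun a ha => ?_
    -- a normal subgroup of order `q` of a `q`-group is central
    have hn : (Z₁.subgroupOf S).Normal :=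
      (Subgroup.normal_subgroupOf_iff_le_normalizer hZS).mpr (hSL.trans hLZ)
    have hne := PGroup.inf_center_ne_bot hS (Z₁.subgroupOf S) fun h => hZ1 (by
      rw [← inf_eq_left.mpr hZS, ← Subgroup.subgroupOf_map_subtype, h, Subgroup.map_bot])
    obtain ⟨w, hw, hw1⟩ : ∃ w ∈ Z₁.subgroupOf S ⊓ Subgroup.center S, w ≠ 1 := by
      by_contra h
      exact hne ((Subgroup.eq_bot_iff_forall _).mpr fun w hw => by_contra fun h1 => h ⟨w, hw, h1⟩)
    obtain ⟨i, hi⟩ := Subgroup.mem_zpowers_iff.mp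
      (mem_zpowers_of_prime_card (G := Z₁) (g := ⟨(w : G), hw.1⟩) (g' := ⟨z, hz⟩) hk
        fun h => hw1 (Subtype.ext (congrArg (fun t : Z₁ => (t : G)) h)))
    have hi' : ((w : G)) ^ i = z := congrArg Subtype.val hi
    rw [← hi']
    exact (show Commute a (w : G) from congrArg Subtype.val
      (Subgroup.mem_center_iff.mp hw.2 ⟨a, hBS ha⟩)).zpow_right i

end CfsgLib.Uniqueness
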