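import Cfsg.Agent.Uniqueness.TauTwoCentral
import Cfsg.Agent.OddStep14.Conj
import Cfsg.Agent.S0033

/-!
Bender–Glauberman 12.5 (c), (e), (f): the plane of a `τ₂`-prime modulo `M_σ`.
-/

set_option autoImplicit false
set_option linter.style.haveILetI false

open scoped commutatorElement

namespace CfsgLib.Uniqueness

open Cfsg CfsgLib CfsgLib.Coprime CfsgLib.Signalizer

universe u

variable {G : Type u} [Group G] [Finite G] {p : ℕ} [hp : Fact p.Prime]

omit [Finite G] in
theorem IsPlane.exists_line_ne_two {A : Subgroup G} (hA : IsPlane p A) {l n : Subgroup G}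
    (hl : l ≤ A) (hlc : Nat.card l = p) (hn : n ≤ A) (hnc : Nat.card n = p) (hne : l ≠ n) :
    ∃ m : Subgroup G, m ≤ A ∧ Nat.card m = p ∧ m ≠ l ∧ m ≠ n := by
  obtain ⟨x, hx, hx1⟩ := exists_ne_one_of_card hlc
  obtain ⟨y, hy, hy1⟩ := exists_ne_one_of_card hnc
  have hl' : x * y ∉ l := fun h => hne (eq_of_lines hlc hnc
    (show y ∈ l by simpa using mul_mem (inv_mem hx) h) hy hy1)
  have hn' : x * y ∉ n := fun h => hne (eq_of_lines hlc hnc hx
    (show x ∈ n by simpa using mul_mem h (inv_mem hy)) hx1)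
  exact ⟨Subgroup.zpowers (x * y), Subgroup.zpowers_le.mpr (mul_mem (hl hx) (hn hy)),
    hA.card_zpowers (mul_mem (hl hx) (hn hy)) fun e => hl' (e ▸ one_mem l),
    fun e => hl' (e ▸ Subgroup.mem_zpowers _), fun e => hn' (e ▸ Subgroup.mem_zpowers _)⟩

theorem exists_sylow_core (hG : IsMinSimpleOddOrder G) {A L Y : Subgroup G} (hA : IsPlane p A)
    (hmax : ∀ B : Subgroup G, IsElementaryAbelian p B → A ≤ B → B = A) (hL : IsCoatom L)
    (hAL : A ≤ L) {q : ℕ} [Fact q.Prime] (hqp : q ≠ p) (hY : IsPGroup q Y) (hYL : Y ≤ L)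
    (hAY : A ≤ Subgroup.normalizer (Y : Set G)) :
    ∃ S : Subgroup G, IsPGroup q S ∧ Y ≤ S ∧ S ≤ coreOf p L ∧ ¬ q ∣ S.relIndex (coreOf p L) ∧
      A ≤ Subgroup.normalizer (S : Set G) := by
  haveI : Group.IsSolvable A := isSolvable_of_isPGroup hA.isPGroup
  have hYO : Y ≤ coreOf p L := inv_le_coreOf (hA.transitivityHypothesis hG hmax) hA.isPGroup hL.1
    hAL hYL (fun hd => hqp (eq_of_dvd_card_pGroup hY hp.out hd).symm) hAY
  obtain ⟨SO, hAS, hYS⟩ := le_invariant_sylow (p := q) (hAL.trans (le_normalizer_coreOf L))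
    (coprime_of_isPGroup hA.isPGroup (coreOf_not_dvd L)) (Or.inl inferInstance) Y hYO hY hAY
  refine ⟨_, SO.isPGroup'.map _, hYS, Subgroup.map_subtype_le _, ?_, hAS⟩
  rw [Subgroup.relIndex, Subgroup.subgroupOf,
    Subgroup.comap_map_eq_self_of_injective (coreOf p L).subtype_injective]
  exact SO.not_dvd_index

/-- **BG 12.5 (e).** -/
theorem sigmaCore_inf_eq_bot (hG : IsMinSimpleOddOrder G) {M A : Subgroup G} (hM : IsCoatom M)
    (hp2 : p ∈ tau2 M) (hA : IsPlane p A) (hAM : A ≤ M) {L : Subgroup G} (hL : IsCoatom L)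
    (hne : L ≠ M) (hAL : A ≤ L) : sigmaCore M ⊓ L = ⊥ := by
  by_contra hW
  have hmax := hA.maximal hG hM hp2 hAM
  have hpW : ¬ p ∣ Nat.card ↥(sigmaCore M ⊓ L) := fun h =>
    not_dvd_sigmaCore hp.out hp2.2.1 (h.trans (Subgroup.card_dvd_of_le inf_le_left))
  have hAW := le_normalizer_inf' (hAM.trans (le_normalizer_sigmaCore M))
    (hAL.trans Subgroup.le_normalizer)
  obtain ⟨l, hl, hlc, hlW⟩ := hA.exists_line_fixed hAW hpW hW
  obtain ⟨q, hq', Y, hY, hY1, hYW, hAY⟩ := exists_pGroup_inv hA.isPGroup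
    (le_normalizer_inf' hAW (le_normalizer_centralizer (hA.le_normalizer_of_le hl)))
    (fun h => hpW (h.trans (Subgroup.card_dvd_of_le inf_le_left))) hlW
  haveI := hq'
  have hYσ : Y ≤ sigmaCore M := hYW.trans (inf_le_left.trans inf_le_left)
  have hYL : Y ≤ L := hYW.trans (inf_le_left.trans inf_le_right)
  have hYl : Y ≤ Subgroup.centralizer (l : Set G) := hYW.trans inf_le_right
  have hqσM : q ∈ sigma M := by
    by_contra h
    exact hY1 (le_bot_iff.mp ((le_inf le_rfl hYσ).trans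
      (Constrained.disjoint_of_isPGroup_of_not_dvd hY (not_dvd_sigmaCore hq'.out h)).le))
  have hqp : q ≠ p := fun e => hp2.2.1 (e ▸ hqσM)
  have hqC := not_dvd_centralizer_of_sigma hG hM hp2 hA hAM hqσM
  have hYA : Y ⊓ Subgroup.centralizer (A : Set G) = ⊥ := inf_eq_bot_of_not_dvd hY hqC
  obtain ⟨hNlM, huniq⟩ := unique_of_meets hG hM hp2 hA hAM hl hlc
    (fun h => hY1 (le_bot_iff.mp ((le_inf hYσ hYl).trans h.le)))
  by_cases hpσ : p ∈ sigma L
  · have hcen : Y ≤ Subgroup.centralizer (A : Set G) := by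
      by_cases hqσ : q ∈ sigma L
      · have hsd := sigmaCore_le_derived hG hL
        have hnc : ∀ g : G, M.map (MulAut.conj g).toMonoidHom ≠ L := fun g h => hp2.2.1 (by
          rw [← h, OddStep14.sigma_map_conj] at hpσ
          exact hpσ)
        exact le_centralizer_of_not_beta hG hL hA.isPGroup hY hqp
          (fun h => not_ideal hG hM hp2.2.2.1 hp2.2.2.2 h.2)
          (fun h => alpha_sigma_disjoint hG hL hM hnc h.1 hqσM)
          ((le_sigmaCore_of_isPGroup hG hL hA.isPGroup hAL hpσ).trans hsd)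
          ((le_sigmaCore_of_isPGroup hG hL hY hYL hqσ).trans hsd) hAY
      · exact le_centralizer_of_sigma hG hL hA.isPGroup hAL hpσ hY hYL hqσ hAY
    exact hY1 (le_bot_iff.mp ((le_inf le_rfl hcen).trans hYA.le))
  have hpL := hA.tau2_of_not_sigma hG hL hAL hpσ
  by_cases hqσ : q ∈ sigma L
  · exact hne (huniq L hL (unique_of_meets hG hL hpL hA hAL hl hlc (fun h => hY1 (le_bot_iff.mp
      ((le_inf (le_sigmaCore_of_isPGroup hG hL hY hYL hqσ) hYl).trans h.le)))).1)
  obtain ⟨S, hS, hYS, hSO, hSf, hAS⟩ := exists_sylow_core hG hA hmax hL hAL hqp hY hYL hAY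
  obtain ⟨j, -, -, hj⟩ := exists_line_of_core hG hL hpL hA hAL hqp hqσ hS hSO hSf hAS
    (inf_eq_bot_of_not_dvd hS hqC) hYS hY1 (le_commutator_of_fixed_free hA hqp hY hAY hYA)
  have huL : ∀ n : Subgroup G, n ≤ A → Nat.card n = p → n ≠ j →
      Subgroup.normalizer (n : Set G) ≤ L := fun n hn hnc hnj =>
    (unique_of_meets hG hL hpL hA hAL hn hnc (hj n hn hnc hnj)).1
  by_cases hlj : l = j
  swap
  · exact hne (huniq L hL (huL l hl hlc hlj))
  subst hlj
  obtain ⟨n, hn, hnc, hnl⟩ := hA.exists_line_ne hlc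
  exact not_normalizer_plane_le hG hL hpL hA hAL (normalizer_le_of_meets hG hL hpL hAL hn hnc
    (huL n hn hnc hnl) l fun n' hn' hnc' _ hn'l => hj n' hn' hnc' hn'l)

/-- A plane inside an abelian Sylow subgroup of `G` lies in the derived group of its normalizer. -/
theorem plane_le_commutator_normalizer (hG : IsMinSimpleOddOrder G) {A : Subgroup G}
    (hA : IsPlane p A) (hmax : ∀ B : Subgroup G, IsElementaryAbelian p B → A ≤ B → B = A)
    (S : Sylow p G) (hAS : A ≤ (S : Subgroup G)) (hab : IsMulCommutative (S : Subgroup G)) :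
    A ≤ ⁅Subgroup.normalizer (A : Set G), Subgroup.normalizer (A : Set G)⁆ := by
  set P := (S : Subgroup G)
  set NP := Subgroup.normalizer (P : Set G)
  have hP : IsPGroup p P := S.isPGroup'
  have hPG : ¬ p ∣ P.index := S.not_dvd_index
  have hPNP : P ≤ NP := Subgroup.le_normalizer
  haveI : (P.subgroupOf NP).Normal :=
    (Subgroup.normal_subgroupOf_iff_le_normalizer hPNP).mpr le_rfl
  obtain ⟨V₀, hV₀⟩ := Subgroup.exists_right_complement'_of_coprime (N := P.subgroupOf NP) (by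
    rw [Nat.card_congr (Subgroup.subgroupOfEquivOfLe hPNP).toEquiv]
    refine Nat.coprime_of_dvd fun r hr h1 h2 => hPG ?_
    rw [eq_of_dvd_card_pGroup hP hr h1] at h2
    exact h2.trans (Subgroup.relIndex_dvd_index_of_le hPNP))
  set V := V₀.map NP.subtype
  have hVN : V ≤ NP := Subgroup.map_subtype_le _
  have hinf : P ⊓ V = ⊥ := by
    rw [Subgroup.eq_bot_iff_forall]
    rintro x ⟨hx, ⟨y, hy, rfl⟩⟩
    have h2 : y ∈ P.subgroupOf NP ⊓ V₀ := ⟨hx, hy⟩
    rw [hV₀.disjoint.eq_bot, Subgroup.mem_bot] at h2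
    rw [h2, map_one]
  have hcompl : IsComplIn P V NP := by
    refine ⟨hPNP, hVN, hinf, fun m hm => ?_⟩
    obtain ⟨⟨a, b⟩, hab', -⟩ := (Subgroup.isComplement_iff_existsUnique.mp hV₀) ⟨m, hm⟩
    exact ⟨(a : NP), a.2, (b : NP), ⟨_, b.2, rfl⟩, (congrArg Subtype.val hab').symm⟩
  have hcopV : (Nat.card V).Coprime (Nat.card P) := by
    refine ((coprime_of_isPGroup hP ?_)).symm
    rw [Subgroup.card_map_of_injective NP.subtype_injective]
    intro h
    refine hPG (h.trans ?_)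
    rw [(hV₀.symm.index_eq_card).symm]
    exact Subgroup.relIndex_dvd_index_of_le hPNP
  have hPV0 : P ⊓ Subgroup.centralizer (V : Set G) = ⊥ := by
    have h := commutator_inf_centralizer_eq_bot hab hVN hcopV
    rwa [← (sylow_eq_commutator hG S hcompl).1] at h
  have hVA : V ≤ Subgroup.normalizer (A : Set G) := le_normalizer_of_conj_mem fun g hg a ha => by
    refine mem_of_maximal_elementary hA.elem hmax ?_ fun b hb => ?_
    · rw [← MulAut.conj_apply, ← map_pow, hA.elem.2 a ha, map_one]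
    · exact congrArg Subtype.val (hab.is_comm.comm (⟨b, hAS hb⟩ : P)
        ⟨_, (Subgroup.mem_normalizer_iff.mp (hVN hg) a).mp (hAS ha)⟩)
  have h := commutator_sup_centralizer_of_comm hA.elem.1 hVA
    (Nat.Coprime.coprime_dvd_right (Subgroup.card_dvd_of_le hAS) hcopV)
  rw [show A ⊓ Subgroup.centralizer (V : Set G) = ⊥ from
    le_bot_iff.mp ((inf_le_inf_right _ hAS).trans hPV0.le), sup_bot_eq] at h
  exact h.ge.trans (Subgroup.commutator_mono Subgroup.le_normalizer hVA)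

/-- **The key to BG 12.5 (c).** A plane centralises every invariant `σ(M)'`-subgroup of `M` of
order prime to `p`. -/
theorem le_centralizer_plane (hG : IsMinSimpleOddOrder G) {M A : Subgroup G} (hM : IsCoatom M)
    (hp2 : p ∈ tau2 M) (hA : IsPlane p A) (hAM : A ≤ M) {q : ℕ} [hq : Fact q.Prime]
    (hqσ : q ∉ sigma M) (hqp : q ≠ p) {Y : Subgroup G} (hY : IsPGroup q Y) (hYM : Y ≤ M)
    (hAY : A ≤ Subgroup.normalizer (Y : Set G)) : Y ≤ Subgroup.centralizer (A : Set G) := by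
  by_contra hYA
  have hmax := hA.maximal hG hM hp2 hAM
  have hTH := hA.transitivityHypothesis hG hmax
  set Y₀ := ⁅Y, A⁆ with hY₀def
  have hY₀Y : Y₀ ≤ Y := commutator_le_of_le_normalizer hAY
  have hY₀1 : Y₀ ≠ ⊥ := fun h => hYA (Subgroup.commutator_eq_bot_iff_le_centralizer.mp h)
  have hAY₀ : A ≤ Subgroup.normalizer (Y₀ : Set G) :=
    le_normalizer_commutator hAY Subgroup.le_normalizer
  haveI : Group.IsSolvable Y := isSolvable_of_isPGroup hY
  have hY₀c : Y₀ ≤ ⁅Y₀, A⁆ := (commutator_commutator_eq hAY (coprime_of_isPGroup hA.isPGroup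
    fun hd => hqp (eq_of_dvd_card_pGroup hY hp.out hd).symm) (Or.inr inferInstance)).ge
  obtain ⟨S, hS, hYS, hSO, hSf, hAS⟩ :=
    exists_sylow_core hG hA hmax hM hAM hqp (hY.to_le hY₀Y) (hY₀Y.trans hYM) hAY₀
  by_cases hSC : S ⊓ Subgroup.centralizer (A : Set G) = ⊥
  · obtain ⟨j, -, hjc, hj⟩ :=
      exists_line_of_core hG hM hp2 hA hAM hqp hqσ hS hSO hSf hAS hSC hYS hY₀1 hY₀c
    obtain ⟨n, hn, hnc, hnj⟩ := hA.exists_line_ne hjc
    exact not_normalizer_plane_le hG hM hp2 hA hAM (normalizer_le_of_meets hG hM hp2 hAM hn hnc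
      (unique_of_meets hG hM hp2 hA hAM hn hnc (hj n hn hnc hnj)).1 j
      fun n' hn' hnc' _ hn'j => hj n' hn' hnc' hn'j)
  have hSnC : ¬ S ≤ Subgroup.centralizer (A : Set G) := fun h => hY₀1 (le_bot_iff.mp
    (hY₀c.trans (le_of_eq (Subgroup.commutator_eq_bot_iff_le_centralizer.mpr (hYS.trans h)))))
  have hSM : S ≤ M := hSO.trans (coreOf_le M)
  have hS1 : S ≠ ⊥ := fun h => hY₀1 (le_bot_iff.mp (h ▸ hYS))
  have hScyc : ¬ IsCyclic S := fun hc => hSC (inf_centralizer_of_cyclic hS hc hAS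
    (coprime_of_isPGroup hA.isPGroup fun hd => hqp (eq_of_dvd_card_pGroup hS hp.out hd).symm)
    hSnC).1
  obtain ⟨E, -, hE, hEc⟩ :=
    PGroup.exists_normal_elementary_sq (ne_two_of_isPGroup hG hS hS1) hS hScyc
  have hB : IsPlane q (E.map S.subtype) := ⟨⟨comm_map _ hE.1, by
      rintro _ ⟨e, he, rfl⟩
      rw [← map_pow, hE.2 e he, map_one]⟩,
    by rw [Subgroup.card_map_of_injective S.subtype_injective, hEc]⟩
  have hq2 := hB.tau2_of_not_sigma hG hM ((Subgroup.map_subtype_le _).trans hSM) hqσ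
  have hqni := not_ideal hG hM hq2.2.2.1 hq2.2.2.2
  have hqC : q ∣ Nat.card (Subgroup.centralizer (A : Set G)) := by
    obtain ⟨k, hk⟩ := IsPGroup.iff_card.mp (hS.to_le (inf_le_left :
      S ⊓ Subgroup.centralizer (A : Set G) ≤ S))
    refine dvd_trans ?_ (Subgroup.card_dvd_of_le (inf_le_right :
      S ⊓ Subgroup.centralizer (A : Set G) ≤ Subgroup.centralizer (A : Set G)))
    rw [hk]
    exact dvd_pow_self q fun h0 => hSC (Subgroup.card_eq_one.mp (by rw [hk, h0, pow_zero]))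
  have hqA : ¬ q ∣ Nat.card A := fun hd => hqp (eq_of_dvd_card_pGroup hA.isPGroup hq.out hd)
  obtain ⟨Q, hQ, hSQ⟩ := exists_maxInv hq.out hS hAS
  have htr : Trans q A A := ⟨⟨Q, hQ, le_normalizer_of_mem_maxInv hq.out hQ⟩,
    fun Q₁ h₁ Q₂ h₂ _ _ => hA.conj_maxInv hG hmax hq.out hqp hqC h₁ h₂⟩
  set N := Subgroup.normalizer (A : Set G) with hN
  have hWQ := (normalizer_clauses hG hTH hq.out hqA (ne_top_of_le_coatom hM hAM)
    (fun _ _ h => h) le_rfl htr hQ).1
  have hQp : IsPGroup q Q := isPGroup_of_mem_maxInv hq.out hQ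
  have hQ1 : Q ≠ ⊥ := fun h => hS1 (le_bot_iff.mp (h ▸ hSQ))
  obtain ⟨H, hH, hNQH⟩ := exists_coatom_ge (normalizer_ne_top hG hQ1 (isPGroup_ne_top hG hQp))
  have hSH : S ≤ H := hSQ.trans (Subgroup.le_normalizer.trans hNQH)
  set W := A ⊓ ⁅N, N⁆ with hWdef
  have hWH : W ≤ ⁅H, H⁆ := hWQ.trans (Subgroup.commutator_mono hNQH hNQH)
  -- `W` centralises `S`
  have hWS : ∀ w ∈ W, ∀ s ∈ S, s * w = w * s := by
    have hqH : q ∣ Nat.card H := by
      obtain ⟨k, hk⟩ := IsPGroup.iff_card.mp hS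
      refine dvd_trans ?_ (Subgroup.card_dvd_of_le hSH)
      rw [hk]
      exact dvd_pow_self q fun h0 => hS1 (Subgroup.card_eq_one.mp (by rw [hk, h0, pow_zero]))
    obtain ⟨T, N₀, hN₀n, hN₀⟩ := (structure_of_not_beta hG hH hqH fun h => hqni h.2).2
    have hN₀q : ¬ q ∣ Nat.card N₀ := by
      rw [← hN₀.index_eq_card]
      exact T.not_dvd_index
    have heq : N₀ = pPrimeCore q ↥⁅H, H⁆ := by
      refine le_antisymm (Constrained.le_pPrimeCore_of_not_dvd hN₀n hN₀q) ?_
      refine Subgroup.relIndex_eq_one.mp (Nat.eq_one_iff_not_exists_prime_dvd.mpr fun r hr hd => ?_)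
      have h1 := hd.trans (Subgroup.relIndex_dvd_card _ _)
      have h2 := hd.trans (Subgroup.relIndex_dvd_index_of_normal _ _)
      rw [hN₀.symm.index_eq_card] at h2
      obtain ⟨k, hk⟩ := IsPGroup.iff_card.mp T.isPGroup'
      rw [hk] at h2
      exact Constrained.pPrimeCore_not_dvd
        (((Nat.prime_dvd_prime_iff_eq hr hq.out).mp (hr.dvd_of_dvd_pow h2)) ▸ h1)
    set K := coreOf q ⁅H, H⁆
    have hHD : H ≤ Subgroup.normalizer ((⁅H, H⁆ : Subgroup G) : Set G) :=
      le_normalizer_of_conj_mem fun g hg x hx => by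
        have h := Subgroup.map_commutator H H (MulAut.conj g).toMonoidHom
        rw [map_conj_eq_of_mem_normalizer (Subgroup.le_normalizer hg)] at h
        exact h.le ⟨x, hx, rfl⟩
    have hHK : H ≤ Subgroup.normalizer (K : Set G) := le_normalizer_map_characteristic hHD _
    have hWp : IsPGroup p W := hA.isPGroup.to_le inf_le_left
    have hWK : W ≤ K := by
      intro w hw
      refine ⟨⟨w, hWH hw⟩, heq ▸ ?_, rfl⟩
      have h1 : N₀.relIndex (W.subgroupOf ⁅H, H⁆) = 1 := by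
        refine Nat.eq_one_iff_not_exists_prime_dvd.mpr fun r hr hd => ?_
        have h1 := hd.trans (Subgroup.relIndex_dvd_card _ _)
        rw [Nat.card_congr (Subgroup.subgroupOfEquivOfLe hWH).toEquiv] at h1
        have h2 := hd.trans (Subgroup.relIndex_dvd_index_of_normal _ _)
        rw [hN₀.symm.index_eq_card] at h2
        obtain ⟨k, hk⟩ := IsPGroup.iff_card.mp T.isPGroup'
        rw [hk] at h2
        exact hqp (((Nat.prime_dvd_prime_iff_eq hr hq.out).mp (hr.dvd_of_dvd_pow h2)).symm.trans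
          (eq_of_dvd_card_pGroup hWp hr h1))
      exact Subgroup.relIndex_eq_one.mp h1 (show (⟨w, hWH hw⟩ : ↥⁅H, H⁆) ∈ W.subgroupOf ⁅H, H⁆ from hw)
    intro w hw s hs
    have h1 : s * w * s⁻¹ * w⁻¹ ∈ K :=
      mul_mem ((Subgroup.mem_normalizer_iff.mp (hHK (hSH hs)) w).mp (hWK hw)) (inv_mem (hWK hw))
    have h2 : s * w * s⁻¹ * w⁻¹ ∈ S := by
      rw [show s * w * s⁻¹ * w⁻¹ = s * (w * s⁻¹ * w⁻¹) by group]
      exact mul_mem hs ((Subgroup.mem_normalizer_iff.mp (hAS hw.1) _).mp (inv_mem hs))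
    have h3 : s * w * s⁻¹ * w⁻¹ = 1 := Subgroup.mem_bot.mp
      ((Constrained.disjoint_of_isPGroup_of_not_dvd hS (coreOf_not_dvd (p := q) ⁅H, H⁆)).le ⟨h2, h1⟩)
    exact commutatorElement_eq_one_iff_mul_comm.mp h3
  obtain ⟨PG, hAPG⟩ := hA.isPGroup.exists_le_sylow
  by_cases hab : IsMulCommutative (PG : Subgroup G)
  · have hAN := plane_le_commutator_normalizer hG hA hmax PG hAPG hab
    exact hSnC fun s hs => Subgroup.mem_centralizer_iff.mpr fun a ha =>
      (hWS a ⟨ha, hAN ha⟩ s hs).symm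
  set P := (PG : Subgroup G)
  have hP : IsPGroup p P := PG.isPGroup'
  obtain ⟨Z₀, Yc, hZc, hZA, -, -, hiff, hCab, -, htrZ⟩ :=
    plane_structure hG hP hab hAPG hA.elem hA.card hmax
  set U := P ⊓ N with hU
  have hlt : P ⊓ Subgroup.centralizer (A : Set G) < P :=
    lt_of_le_of_ne inf_le_left fun h => hab (h ▸ hCab)
  obtain ⟨g, hg, hgC⟩ : ∃ g ∈ U, g ∉ Subgroup.centralizer (A : Set G) := by
    obtain ⟨x, hx, hxC⟩ := SetLike.exists_of_lt (lt_normalizer_inf hP hlt)
    obtain ⟨hxN, hxP⟩ := hx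
    refine ⟨x, ⟨hxP, le_normalizer_of_conj_mem (A := Subgroup.zpowers x) ?_
      (Subgroup.mem_zpowers x)⟩, fun h => hxC ⟨hxP, h⟩⟩
    intro y hy a ha
    have hyP : y ∈ P := Subgroup.zpowers_le.mpr hxP hy
    have hyN := Subgroup.zpowers_le.mpr hxN hy
    refine mem_of_maximal_elementary hA.elem hmax ?_ (Subgroup.mem_centralizer_iff.mp
      ((Subgroup.mem_normalizer_iff.mp hyN a).mp ⟨hAPG ha, hA.le_centralizer ha⟩).2)
    rw [← MulAut.conj_apply, ← map_pow, hA.elem.2 a ha, map_one]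
  have hWU : U ≤ Subgroup.normalizer (W : Set G) := le_normalizer_inf' inf_le_right
    (inf_le_right.trans (le_normalizer_of_conj_mem fun g hg x hx => by
      have h := Subgroup.map_commutator N N (MulAut.conj g).toMonoidHom
      rw [map_conj_eq_of_mem_normalizer (Subgroup.le_normalizer hg)] at h
      exact h.le ⟨x, hx, rfl⟩))
  obtain ⟨a₀, ha₀, ha₀g⟩ : ∃ a ∈ A, ¬ a * g = g * a := by
    by_contra h
    exact hgC (Subgroup.mem_centralizer_iff.mpr fun a ha => not_not.mp fun h' => h ⟨a, ha, h'⟩)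
  have hAU : A ≤ U := le_inf hAPG Subgroup.le_normalizer
  have hW1 : W.subgroupOf U ≠ ⊥ := by
    intro h
    have hm : ⁅g, a₀⁆ ∈ W := by
      refine ⟨?_, Subgroup.commutator_mem_commutator hg.2 (Subgroup.le_normalizer ha₀)⟩
      rw [commutatorElement_def]
      exact Subgroup.mul_mem _ ((Subgroup.mem_normalizer_iff.mp hg.2 a₀).mp ha₀) (Subgroup.inv_mem _ ha₀)
    have h1 : ((⟨⁅g, a₀⁆, hAU hm.1⟩ : U)) ∈ W.subgroupOf U := hm
    rw [h, Subgroup.mem_bot] at h1
    exact ha₀g (commutatorElement_eq_one_iff_mul_comm.mp (congrArg Subtype.val h1)).symm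
  haveI : (W.subgroupOf U).Normal :=
    (Subgroup.normal_subgroupOf_iff_le_normalizer (inf_le_left.trans hAU)).mpr hWU
  obtain ⟨w, hw, hw1⟩ : ∃ w ∈ W.subgroupOf U ⊓ Subgroup.center U, w ≠ 1 := by
    by_contra h
    exact PGroup.inf_center_ne_bot (hP.to_le inf_le_left) (W.subgroupOf U) hW1
      ((Subgroup.eq_bot_iff_forall _).mpr fun w hw => by_contra fun h1 => h ⟨w, hw, h1⟩)
  have hwG : (w : G) ≠ 1 := fun h => hw1 (Subtype.ext h)
  have hX : Nat.card (Subgroup.zpowers (w : G)) = p := hA.card_zpowers hw.1.1 hwG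
  have hXA : Subgroup.zpowers (w : G) ≤ A := Subgroup.zpowers_le.mpr hw.1.1
  -- a line fixed by `N_P(A)` is the central one
  have hXZ : Subgroup.zpowers (w : G) = Z₀ := by
    by_contra hne
    obtain ⟨m, hm, hmc, hm1, hm2⟩ := hA.exists_line_ne_two hXA hX hZA hZc hne
    obtain ⟨v, hvP, hvN, hv⟩ := htrZ _ m hXA hX hne hm hmc hm2
    refine hm1 (hv.symm.trans ?_)
    rw [MonoidHom.map_zpowers]
    congr 1
    have h1 : (v : G) * w = w * v :=
      congrArg Subtype.val (Subgroup.mem_center_iff.mp hw.2 ⟨v, hvP, hvN⟩)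
    show v * (w : G) * v⁻¹ = w
    rw [h1, mul_inv_cancel_right]
  have hSZ : S ≤ Subgroup.centralizer (Z₀ : Set G) := by
    refine Subgroup.le_centralizer_iff.mp ?_
    rw [← hXZ, Subgroup.zpowers_le]
    exact Subgroup.mem_centralizer_iff.mpr fun s hs => hWS _ hw.1 s hs
  have hZP : Z₀ ≤ P := hZA.trans hAPG
  obtain ⟨L, hL, hNL⟩ := exists_coatom_ge (normalizer_ne_top hG (ne_bot_of_card hZc)
    (ne_top_of_le_coatom hM (hZA.trans hAM)))
  have hNP : Subgroup.normalizer (P : Set G) ≤ L := by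
    refine le_trans (le_normalizer_of_conj_mem fun v hv z hz => ?_) hNL
    have hgz : v * z * v⁻¹ ∈ P := (Subgroup.mem_normalizer_iff.mp hv z).mp (hZP hz)
    refine (hiff _ hgz ?_).mp fun y hy => ?_
    · rw [← MulAut.conj_apply, ← map_pow, (elementary_of_card hZc).2 z hz, map_one]
    · have hy' : v⁻¹ * y * v ∈ P := (Subgroup.mem_normalizer_iff''.mp hv y).mp hy
      calc y * (v * z * v⁻¹) = v * ((v⁻¹ * y * v) * z) * v⁻¹ := by group
        _ = v * (z * (v⁻¹ * y * v)) * v⁻¹ := by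
          rw [(hiff z (hZP hz) ((elementary_of_card hZc).2 z hz)).mpr hz _ hy']
        _ = v * z * v⁻¹ * y := by group
  have hPL : P ≤ L := Subgroup.le_normalizer.trans hNP
  have hAL : A ≤ L := hAPG.trans hPL
  have hSL : S ≤ L := (hSZ.trans (Subgroup.centralizer_le_normalizer _)).trans hNL
  have hpA : p ∣ Nat.card A := hA.card ▸ dvd_pow_self p two_ne_zero
  have hpσ : p ∈ sigma L := sigma_of_normalizer_le (hpA.trans (Subgroup.card_dvd_of_le hAL)) hP hPL
    (fun h => PG.not_dvd_index (h.trans (Subgroup.relIndex_dvd_index_of_le hPL))) hNP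
  by_cases hqσL : q ∈ sigma L
  · have hsd := sigmaCore_le_derived hG hL
    exact hSnC (le_centralizer_of_not_beta hG hL hA.isPGroup hS hqp
      (fun h => not_ideal hG hM hp2.2.2.1 hp2.2.2.2 h.2) (fun h => hqni h.2)
      ((le_sigmaCore_of_isPGroup hG hL hA.isPGroup hAL hpσ).trans hsd)
      ((le_sigmaCore_of_isPGroup hG hL hS hSL hqσL).trans hsd) hAS)
  · exact hSnC (le_centralizer_of_sigma hG hL hA.isPGroup hAL hpσ hS hSL hqσL hAS)

/-- **BG 12.5 (c).** `M` normalizes `M_σA`. -/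
theorem le_normalizer_sup_plane (hG : IsMinSimpleOddOrder G) {M A : Subgroup G} (hM : IsCoatom M)
    (hp2 : p ∈ tau2 M) (hA : IsPlane p A) (hAM : A ≤ M) :
    M ≤ Subgroup.normalizer ((sigmaCore M ⊔ A : Subgroup G) : Set G) := by
  haveI : Group.IsSolvable A := isSolvable_of_isPGroup hA.isPGroup
  haveI := solvable_of_ne_top hG hM.1
  set T := sigmaCore M ⊔ A with hT
  set NT := Subgroup.normalizer (T : Set G) with hNT
  have hσT : sigmaCore M ≤ T := le_sup_left
  have hTN : T ≤ NT := Subgroup.le_normalizer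
  have hmemN : ∀ x ∈ M, x ∈ Subgroup.normalizer (A : Set G) → x ∈ NT := fun x hxM hxA => by
    rw [hNT, Subgroup.mem_normalizer_iff_map_conj_eq, hT, Subgroup.map_sup,
      Subgroup.mem_normalizer_iff_map_conj_eq.mp (le_normalizer_sigmaCore M hxM),
      Subgroup.mem_normalizer_iff_map_conj_eq.mp hxA]
  have hO : coreOf p M ≤ NT := by
    refine le_of_forall_invariant_sylow (hAM.trans (le_normalizer_coreOf M))
      (coprime_of_isPGroup hA.isPGroup (coreOf_not_dvd M)) (Or.inl inferInstance)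
      fun q Y hq hYO hY hAY => ?_
    haveI := Fact.mk hq
    by_cases hqσ : q ∈ sigma M
    · exact ((le_sigmaCore_of_isPGroup hG hM hY (hYO.trans (coreOf_le M)) hqσ).trans hσT).trans hTN
    by_cases hY1 : Y = ⊥
    · exact hY1 ▸ bot_le
    have hqp : q ≠ p := fun e => hY1 (le_bot_iff.mp ((le_inf le_rfl hYO).trans
      (Constrained.disjoint_of_isPGroup_of_not_dvd hY (e ▸ coreOf_not_dvd M)).le))
    exact fun y hy => hmemN y (coreOf_le M (hYO hy)) (Subgroup.centralizer_le_normalizer _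
      (le_centralizer_plane hG hM hp2 hA hAM hqσ hqp hY (hYO.trans (coreOf_le M)) hAY hy))
  obtain ⟨P, hAP, hPM, hP, hPf⟩ := exists_full hAM hA.isPGroup
  have hpM : p ∣ Nat.card M := by
    have h1 : p ∣ Nat.card A := hA.card ▸ dvd_pow_self p two_ne_zero
    exact h1.trans (Subgroup.card_dvd_of_le hAM)
  have hPpp : P ⊓ ppCoreOf p M = P := by
    refine inf_eq_left.mpr fun x hx => ⟨⟨x, hPM hx⟩, ?_, rfl⟩
    haveI : (pPrimePCore p ↥M).Normal :=
      (inferInstance : (pCore p (↥M ⧸ pPrimeCore p ↥M)).Normal).comap _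
    have hcop := (Cfsg.Agent.S1450.result (odd_card hG M) p hpM hp2.2.2.1).2.2.2.2.2
    have h1 : (pPrimePCore p ↥M).relIndex (P.subgroupOf M) = 1 := by
      refine Nat.eq_one_iff_not_exists_prime_dvd.mpr fun r hr hd => ?_
      have hrp := eq_of_dvd_card_pGroup (hP.comap_subtype : IsPGroup p (P.subgroupOf M)) hr
        (hd.trans (Subgroup.relIndex_dvd_card _ _))
      have h2 := hd.trans (Subgroup.relIndex_dvd_index_of_normal _ _)
      exact hr.ne_one (Nat.eq_one_of_dvd_coprimes hcop h2 (by rw [hrp]))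
    exact Subgroup.relIndex_eq_one.mp h1 (show (⟨x, hPM hx⟩ : M) ∈ P.subgroupOf M from hx)
  refine (le_core_sup_normalizer_inter hPM hP hPf).trans (sup_le hO ?_)
  rw [hPpp]
  exact fun x hx => hmemN x hx.1
    (normalizer_full_le_normalizer_plane hG hM hp2 hP hPM hPf hA hAP hx.2)

/-- **BG 12.5 (f).** Some line fixes no non-identity element of `M_σ`. -/
theorem exists_line_fpf (hG : IsMinSimpleOddOrder G) {M A : Subgroup G} (hM : IsCoatom M)
    (hp2 : p ∈ tau2 M) (hA : IsPlane p A) (hAM : A ≤ M) :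
    ∃ n : Subgroup G, n ≤ A ∧ Nat.card n = p ∧
      sigmaCore M ⊓ Subgroup.centralizer (n : Set G) = ⊥ := by
  by_contra h
  have hall : ∀ n : Subgroup G, n ≤ A → Nat.card n = p → Meets M n := fun n hn hnc h' =>
    h ⟨n, hn, hnc, h'⟩
  obtain ⟨n, hn, hnc⟩ := hA.exists_line
  exact not_normalizer_plane_le hG hM hp2 hA hAM (normalizer_le_of_meets hG hM hp2 hAM hn hnc
    (unique_of_meets hG hM hp2 hA hAM hn hnc (hall n hn hnc)).1 n
    fun n' hn' hnc' _ _ => hall n' hn' hnc')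

/-- **BG 12.5 (a).** `M_σ` is nilpotent. -/
theorem sigmaCore_nilpotent (hG : IsMinSimpleOddOrder G) {M A : Subgroup G} (hM : IsCoatom M)
    (hp2 : p ∈ tau2 M) (hA : IsPlane p A) (hAM : A ≤ M) : Group.IsNilpotent (sigmaCore M) := by
  obtain ⟨n, hn, hnc, hfix⟩ := exists_line_fpf hG hM hp2 hA hAM
  obtain ⟨a, ha, ha1⟩ := exists_ne_one_of_card hnc
  have hgen : Subgroup.zpowers a = n := Subgroup.eq_of_le_of_card_ge (Subgroup.zpowers_le.mpr ha)
    (by rw [hnc, hA.card_zpowers (hn ha) ha1])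
  have haN : a ∈ Subgroup.normalizer (sigmaCore M : Set G) :=
    le_normalizer_sigmaCore M (hAM (hn ha))
  let φ : MulAut (sigmaCore M) := (sigmaCore M).normalizerMonoidHom ⟨a, haN⟩
  have key : ∀ x : sigmaCore M, φ x = x → x = 1 := fun x hx => Subtype.ext (Subgroup.mem_bot.mp
    (hfix.le ⟨x.2, by
      rw [← hgen, Subgroup.zpowers_eq_closure, Subgroup.centralizer_closure]
      refine Subgroup.mem_centralizer_singleton_iff.mpr ?_
      exact (mul_inv_eq_iff_eq_mul.mp (show a * (x : G) * a⁻¹ = x from congrArg Subtype.val hx)).symm⟩))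
  have hord : orderOf φ = p := by
    refine orderOf_eq_prime ?_ fun h1 => sigmaCore_ne_bot hG hM ?_
    · rw [← map_pow, show (⟨a, haN⟩ : Subgroup.normalizer (sigmaCore M : Set G)) ^ p = 1 from
        Subtype.ext (hA.elem.2 a (hn ha)), map_one]
    · refine (Subgroup.eq_bot_iff_forall _).mpr fun x hx => ?_
      exact congrArg Subtype.val (key ⟨x, hx⟩ (by rw [h1]; rfl))
  exact Cfsg.Agent.S0033.result φ key p hp.out hord

end CfsgLib.Uniqueness
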