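import Cfsg.Agent.Uniqueness.MaxPlane
import Cfsg.Agent.Uniqueness.SigmaNonempty
import Cfsg.Agent.Uniqueness.SigmaDisjoint
import Cfsg.Agent.Uniqueness.AlphaCentral
import Cfsg.Agent.S1394
import Cfsg.Agent.S1396

/-!
Bender–Glauberman 11–12, preliminaries: planes (elementary abelian subgroups of order `p²`), their
lines, transitivity on invariant `q`-subgroups.
-/

set_option autoImplicit false
set_option linter.style.haveILetI false

namespace CfsgLib.Uniqueness

open Cfsg CfsgLib CfsgLib.Coprime CfsgLib.Signalizer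

universe u

variable {G : Type u} [Group G] [Finite G] {p : ℕ} [hp : Fact p.Prime]

/-- An elementary abelian subgroup of order `p²`. -/
structure IsPlane (p : ℕ) (A : Subgroup G) : Prop where
  elem : IsElementaryAbelian p A
  card : Nat.card A = p ^ 2

omit [Finite G] in
theorem eq_of_lines {l n : Subgroup G} (hl : Nat.card l = p) (hn : Nat.card n = p) {x : G}
    (hxl : x ∈ l) (hxn : x ∈ n) (hx : x ≠ 1) : l = n := by
  have key : ∀ {m : Subgroup G}, Nat.card m = p → x ∈ m → Subgroup.zpowers x = m := fun {m} hm hxm => by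
    haveI : Finite m := Nat.finite_of_card_ne_zero (hm ▸ hp.out.ne_zero)
    refine Subgroup.eq_of_le_of_card_ge (Subgroup.zpowers_le.mpr hxm) ?_
    rw [hm, Nat.card_zpowers]
    have h : orderOf x ∣ p := hm ▸ m.orderOf_dvd_natCard hxm
    rcases (Nat.dvd_prime hp.out).mp h with h | h
    · exact absurd (orderOf_eq_one_iff.mp h) hx
    · exact h.ge
  exact (key hl hxl).symm.trans (key hn hxn)

omit [Finite G] in
theorem exists_ne_one_of_card {l : Subgroup G} (hl : Nat.card l = p) : ∃ x ∈ l, x ≠ 1 := by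
  by_contra h
  have : l = ⊥ := (Subgroup.eq_bot_iff_forall _).mpr fun x hx => by_contra fun h1 => h ⟨x, hx, h1⟩
  rw [this, Subgroup.card_bot] at hl
  exact hp.out.one_lt.ne hl

namespace IsPlane

variable {A : Subgroup G}

omit [Finite G] hp in
theorem isPGroup (hA : IsPlane p A) : IsPGroup p A := isPGroup_of_elementary hA.elem

theorem not_isCyclic (hA : IsPlane p A) : ¬ IsCyclic A :=
  not_isCyclic_of_elementary hp.out.pos hA.elem
    (hA.card ▸ lt_self_pow₀ hp.out.one_lt (by norm_num))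

omit [Finite G] in
theorem ne_bot (hA : IsPlane p A) : A ≠ ⊥ := fun h => by
  have := hA.card
  rw [h, Subgroup.card_bot] at this
  exact (one_lt_pow₀ hp.out.one_lt (by norm_num)).ne this

omit [Finite G] hp in
theorem comm (hA : IsPlane p A) {a b : G} (ha : a ∈ A) (hb : b ∈ A) : a * b = b * a :=
  congrArg Subtype.val (hA.elem.1.is_comm.comm ⟨a, ha⟩ ⟨b, hb⟩)

omit hp in
theorem le_centralizer (hA : IsPlane p A) : A ≤ Subgroup.centralizer (A : Set G) :=
  le_centralizer_of_comm hA.elem.1 le_rfl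

theorem le_normalizer_of_le (hA : IsPlane p A) {l : Subgroup G} (hl : l ≤ A) :
    A ≤ Subgroup.normalizer (l : Set G) :=
  fun _ ha => Subgroup.centralizer_le_normalizer _
    (Subgroup.centralizer_le hl (hA.le_centralizer ha))

omit [Finite G] in
theorem card_zpowers (hA : IsPlane p A) {x : G} (hx : x ∈ A) (hx1 : x ≠ 1) :
    Nat.card (Subgroup.zpowers x) = p := by
  rw [Nat.card_zpowers, orderOf_eq_prime (hA.elem.2 x hx) hx1]

theorem sup_eq (hA : IsPlane p A) {l n : Subgroup G} (hl : l ≤ A) (hlc : Nat.card l = p)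
    (hn : n ≤ A) (hnc : Nat.card n = p) (hne : l ≠ n) : l ⊔ n = A := by
  refine Subgroup.eq_of_le_of_card_ge (sup_le hl hn) ?_
  obtain ⟨k, hk⟩ := IsPGroup.iff_card.mp (hA.isPGroup.to_le (sup_le hl hn : l ⊔ n ≤ A))
  have hlt : p < Nat.card ↥(l ⊔ n) := hlc ▸ lt_of_not_ge fun h => by
    have e := Subgroup.eq_of_le_of_card_ge le_sup_left h
    exact hne (Subgroup.eq_of_le_of_card_ge (le_sup_right.trans e.ge) (by rw [hlc, hnc])).symm
  rw [hA.card, hk]
  rw [hk] at hlt
  exact Nat.pow_le_pow_right hp.out.pos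
    ((Nat.pow_lt_pow_iff_right hp.out.one_lt).mp (by rwa [pow_one]))

theorem exists_line_ne (hA : IsPlane p A) {l : Subgroup G} (hlc : Nat.card l = p) :
    ∃ n : Subgroup G, n ≤ A ∧ Nat.card n = p ∧ n ≠ l := by
  obtain ⟨x, hx, hxl⟩ : ∃ x ∈ A, x ∉ l := by
    by_contra h
    have := Subgroup.card_le_of_le (fun x hx => by_contra fun h1 => h ⟨x, hx, h1⟩ : A ≤ l)
    rw [hA.card, hlc] at this
    exact this.not_gt (lt_self_pow₀ hp.out.one_lt (by norm_num))
  exact ⟨Subgroup.zpowers x, Subgroup.zpowers_le.mpr hx,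
    hA.card_zpowers hx fun e => hxl (e ▸ one_mem l), fun e => hxl (e ▸ Subgroup.mem_zpowers x)⟩

theorem exists_line (hA : IsPlane p A) : ∃ n : Subgroup G, n ≤ A ∧ Nat.card n = p := by
  obtain ⟨x, hx, hx1⟩ : ∃ x ∈ A, x ≠ 1 := by
    by_contra h
    exact hA.ne_bot ((Subgroup.eq_bot_iff_forall _).mpr fun x hx => by_contra fun h1 => h ⟨x, hx, h1⟩)
  exact ⟨Subgroup.zpowers x, Subgroup.zpowers_le.mpr hx, hA.card_zpowers hx hx1⟩

omit [Finite G] hp in
theorem map_conj (hA : IsPlane p A) (g : G) : IsPlane p (A.map (MulAut.conj g).toMonoidHom) := by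
  refine ⟨⟨comm_map _ hA.elem.1, ?_⟩, ?_⟩
  · rintro _ ⟨e, he, rfl⟩
    rw [← map_pow, hA.elem.2 e he, map_one]
  · rw [Subgroup.card_map_of_injective (MulAut.conj g).injective, hA.card]

/-- An `A`-invariant `p'`-group is generated by the centralizers of the lines. -/
theorem generate (hA : IsPlane p A) {H K : Subgroup G} (hAH : A ≤ Subgroup.normalizer (H : Set G))
    (hH : ¬ p ∣ Nat.card H)
    (h : ∀ n : Subgroup G, n ≤ A → Nat.card n = p → H ⊓ Subgroup.centralizer (n : Set G) ≤ K) :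
    H ≤ K := by
  refine le_of_centralizers hA.elem.1 hA.not_isCyclic hAH (coprime_of_isPGroup hA.isPGroup hH)
    fun a ha ha1 => le_trans (inf_le_inf_left _ ?_)
      (h _ (Subgroup.zpowers_le.mpr ha) (hA.card_zpowers ha ha1))
  exact (centralizer_zpowers_eq a).ge

theorem exists_line_fixed (hA : IsPlane p A) {H : Subgroup G}
    (hAH : A ≤ Subgroup.normalizer (H : Set G)) (hH : ¬ p ∣ Nat.card H) (hH1 : H ≠ ⊥) :
    ∃ n : Subgroup G, n ≤ A ∧ Nat.card n = p ∧ H ⊓ Subgroup.centralizer (n : Set G) ≠ ⊥ := by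
  by_contra h
  exact hH1 (le_bot_iff.mp (hA.generate hAH hH fun n hn hnc =>
    (not_not.mp fun h1 => h ⟨n, hn, hnc, h1⟩).le))

end IsPlane

omit [Finite G] hp in
theorem eq_of_dvd_card_pGroup {q r : ℕ} [Fact q.Prime] {Y : Subgroup G} [Finite Y] (hY : IsPGroup q Y)
    (hr : r.Prime) (hd : r ∣ Nat.card Y) : r = q := by
  obtain ⟨n, hn⟩ := IsPGroup.iff_card.mp hY
  rw [hn] at hd
  exact (Nat.prime_dvd_prime_iff_eq hr Fact.out).mp (hr.dvd_of_dvd_pow hd)

omit hp in
/-- `M_σ` contains every `σ(M)`-subgroup of `M`. -/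
theorem le_sigmaCore (hG : IsMinSimpleOddOrder G) {L : Subgroup G} (hL : IsCoatom L)
    {X : Subgroup G} (hX : X ≤ L) (hσ : ∀ r : ℕ, r.Prime → r ∣ Nat.card X → r ∈ sigma L) :
    X ≤ sigmaCore L := by
  set N := piCore (sigma L) ↥L
  have h1 : N.relIndex (X.subgroupOf L) = 1 := by
    refine Nat.eq_one_iff_not_exists_prime_dvd.mpr fun r hr hd => ?_
    have hrX := hd.trans (Subgroup.relIndex_dvd_card _ _)
    rw [Nat.card_congr (Subgroup.subgroupOfEquivOfLe hX).toEquiv] at hrX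
    refine (sigmaCore_hall hG hL).1.2.2 r hr (hσ r hr hrX) ?_
    rw [sigmaCore, Subgroup.relIndex, Subgroup.subgroupOf,
      Subgroup.comap_map_eq_self_of_injective L.subtype_injective]
    exact hd.trans (Subgroup.relIndex_dvd_index_of_normal _ _)
  exact fun x hx => ⟨⟨x, hX hx⟩, Subgroup.relIndex_eq_one.mp h1 hx, rfl⟩

omit hp in
theorem le_sigmaCore_of_isPGroup (hG : IsMinSimpleOddOrder G) {L : Subgroup G} (hL : IsCoatom L)
    {q : ℕ} [Fact q.Prime] {X : Subgroup G} (hX : IsPGroup q X) (hXL : X ≤ L) (hq : q ∈ sigma L) :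
    X ≤ sigmaCore L :=
  le_sigmaCore hG hL hXL fun _ hr hd => eq_of_dvd_card_pGroup hX hr hd ▸ hq

omit hp in
theorem not_dvd_sigmaCore {L : Subgroup G} {r : ℕ} (hr : r.Prime) (hrσ : r ∉ sigma L) :
    ¬ r ∣ Nat.card (sigmaCore L) := fun hd => hrσ (by
  rw [sigmaCore, Subgroup.card_map_of_injective L.subtype_injective] at hd
  exact Constrained.piCore_isPiCard r hr hd)

omit [Finite G] hp in
theorem le_normalizer_sigmaCore (L : Subgroup G) : L ≤ Subgroup.normalizer (sigmaCore L : Set G) :=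
  le_normalizer_map_characteristic Subgroup.le_normalizer _

/-- An invariant `q`-subgroup of `L` for `q ∈ σ(L)` lies in an invariant Sylow subgroup of `G`. -/
theorem exists_inv_sylow_sigma (hG : IsMinSimpleOddOrder G) {L A : Subgroup G} (hL : IsCoatom L)
    (hA : IsPGroup p A) (hAL : A ≤ L) (hpσ : p ∉ sigma L) {q : ℕ} [Fact q.Prime] (hq : q ∈ sigma L)
    {Y : Subgroup G} (hY : IsPGroup q Y) (hYL : Y ≤ L) (hAY : A ≤ Subgroup.normalizer (Y : Set G)) :
    ∃ R : Subgroup G, Y ≤ R ∧ R ≤ sigmaCore L ∧ IsPGroup q R ∧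
      A ≤ Subgroup.normalizer (R : Set G) ∧ ¬ q ∣ R.index := by
  haveI : Group.IsSolvable A := isSolvable_of_isPGroup hA
  obtain ⟨P, hP, hYP⟩ := le_invariant_sylow (p := q) (hAL.trans (le_normalizer_sigmaCore L))
    (coprime_of_isPGroup hA (not_dvd_sigmaCore hp.out hpσ)) (Or.inl inferInstance) Y
    (le_sigmaCore_of_isPGroup hG hL hY hYL hq) hY hAY
  refine ⟨_, hYP, Subgroup.map_subtype_le _, P.isPGroup'.map _, hP, ?_⟩
  rw [← Subgroup.relIndex_mul_index (Subgroup.map_subtype_le (P : Subgroup (sigmaCore L)))]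
  intro h
  rcases (Fact.out : q.Prime).dvd_mul.mp h with h | h
  · rw [Subgroup.relIndex, Subgroup.subgroupOf,
      Subgroup.comap_map_eq_self_of_injective (sigmaCore L).subtype_injective] at h
    exact P.not_dvd_index h
  · exact (sigmaCore_hall hG hL).2.2 q Fact.out hq h

omit hp in
/-- An invariant Sylow subgroup of `G` is a maximal invariant `q`-subgroup. -/
theorem mem_maxInv_of_full {A R : Subgroup G} {q : ℕ} [hq : Fact q.Prime] (hR : IsPGroup q R)
    (hRf : ¬ q ∣ R.index) (hAR : A ≤ Subgroup.normalizer (R : Set G)) :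
    R ∈ maxInvSubgroups ⊤ A {q} :=
  ⟨(mem_invSubgroups_prime hq.out).mpr ⟨le_top, hR, hAR⟩, fun S hS hle => by
    exact eq_of_full (X := ⊤) (by rwa [Subgroup.relIndex_top_right]) hle le_top
      ((mem_invSubgroups_prime hq.out).mp hS).2.1⟩

theorem IsPlane.transitivityHypothesis (hG : IsMinSimpleOddOrder G) {A : Subgroup G}
    (hA : IsPlane p A) (hmax : ∀ B : Subgroup G, IsElementaryAbelian p B → A ≤ B → B = A) :
    TransitivityHypothesis A := by
  have hpA : p ∣ Nat.card A := hA.card ▸ dvd_pow_self p two_ne_zero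
  refine Cfsg.Agent.S1396.result hG p (hpA.trans (Subgroup.card_subgroup_dvd_card A)) A hA.isPGroup
    hA.elem.1 (Or.inl ⟨fun x hx => ⟨fun hxp => mem_of_maximal_elementary hA.elem hmax hxp
      (Subgroup.mem_centralizer_iff.mp hx), hA.elem.2 x⟩, fun H hH => pLengthLE_one_of_ne_top hG hH⟩)

theorem IsPlane.conj_maxInv (hG : IsMinSimpleOddOrder G) {A : Subgroup G}
    (hA : IsPlane p A) (hmax : ∀ B : Subgroup G, IsElementaryAbelian p B → A ≤ B → B = A)
    {q : ℕ} (hq : q.Prime) (hqp : q ≠ p) (hqC : q ∣ Nat.card (Subgroup.centralizer (A : Set G)))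
    {Q₁ Q₂ : Subgroup G} (h₁ : Q₁ ∈ maxInvSubgroups ⊤ A {q}) (h₂ : Q₂ ∈ maxInvSubgroups ⊤ A {q}) :
    ∃ k ∈ centCore A A, Q₂ = Q₁.map (MulAut.conj k).toMonoidHom :=
  Cfsg.Agent.S1394.result hG A (hA.transitivityHypothesis hG hmax)
    (by rw [inf_eq_left.mpr hA.le_centralizer]
        exact not_rankLE_of_elementary hp.out le_rfl hA.elem
          (by rw [pow_one, hA.card]; exact lt_self_pow₀ hp.out.one_lt (by norm_num)))
    q hq (fun hd => hqp (eq_of_dvd_card_pGroup hA.isPGroup hq hd)) hqC Q₁ h₁ Q₂ h₂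

omit [Finite G] hp in
theorem centCore_le_centralizer (A P : Subgroup G) :
    centCore A P ≤ Subgroup.centralizer (P : Set G) := Subgroup.map_subtype_le _

/-- A plane of `L` with `p ∉ σ(L)` gives `p ∈ τ₂(L)`. -/
theorem IsPlane.tau2_of_not_sigma (hG : IsMinSimpleOddOrder G) {A L : Subgroup G} (hA : IsPlane p A)
    (hL : IsCoatom L) (hAL : A ≤ L) (hpσ : p ∉ sigma L) : p ∈ tau2 L :=
  ⟨hp.out, hpσ, not_not.mp fun h => hpσ (mem_sigma_of_alpha hG hL ⟨hp.out, h⟩),
    not_pRankLE_of_elementary hAL hA.elem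
      (by rw [pow_one, hA.card]; exact lt_self_pow₀ hp.out.one_lt (by norm_num))⟩

theorem IsPlane.maximal (hG : IsMinSimpleOddOrder G) {A M : Subgroup G} (hA : IsPlane p A)
    (hM : IsCoatom M) (hp2 : p ∈ tau2 M) (hAM : A ≤ M) :
    ∀ B : Subgroup G, IsElementaryAbelian p B → A ≤ B → B = A :=
  elementary_maximal hG hM hp2.2.2.1 hAM hA.elem hA.card

/-- **The normalizer of a plane** follows its centralizer into `L` when `σ(L)` meets the primes of
the centralizer. -/
theorem normalizer_plane_le (hG : IsMinSimpleOddOrder G) {A L : Subgroup G} (hA : IsPlane p A)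
    (hmax : ∀ B : Subgroup G, IsElementaryAbelian p B → A ≤ B → B = A) (hL : IsCoatom L)
    (hpσ : p ∉ sigma L) (hC : Subgroup.centralizer (A : Set G) ≤ L) {q : ℕ} (hq : q ∈ sigma L)
    (hqC : q ∣ Nat.card (Subgroup.centralizer (A : Set G))) :
    Subgroup.normalizer (A : Set G) ≤ L := by
  haveI := Fact.mk hq.1
  have hAL : A ≤ L := hA.le_centralizer.trans hC
  have hqp : q ≠ p := fun e => hpσ (e ▸ hq)
  obtain ⟨R, -, hRσ, hR, hAR, hRi⟩ := exists_inv_sylow_sigma hG hL hA.isPGroup hAL hpσ hq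
    IsPGroup.of_bot bot_le (by rw [Subgroup.normalizer_eq_top]; exact le_top)
  have hRL : R ≤ L := hRσ.trans (Subgroup.map_subtype_le _)
  have hNR : Subgroup.normalizer (R : Set G) ≤ L :=
    normalizer_full_le hq hRL hR fun h => hRi (h.trans (Subgroup.relIndex_dvd_index_of_le hRL))
  intro g hg
  have hRm := mem_maxInv_of_full hR hRi hAR
  obtain ⟨k, hk, hkeq⟩ := hA.conj_maxInv hG hmax hq.1 hqp hqC hRm (maxInv_map_conj hq.1 hRm hg)
  have h1 : k⁻¹ * g ∈ Subgroup.normalizer (R : Set G) := by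
    rw [Subgroup.mem_normalizer_iff_map_conj_eq]
    refine (map_conj_map_conj g k⁻¹ R).symm.trans ?_
    rw [hkeq, map_conj_map_conj, inv_mul_cancel, map_conj_one]
  have := mul_mem (hC (centCore_le_centralizer A A hk)) (hNR h1)
  rwa [mul_inv_cancel_left] at this

end CfsgLib.Uniqueness
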