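import Cfsg.Agent.Uniqueness.TauTwoCore
import Cfsg.Agent.LocalP.RankOne
import Cfsg.Agent.CN.OddThreeStep

/-!
Bender–Glauberman 12.5 (b): for `p ∈ τ₂(M)` the Sylow `p`-subgroups of `M` are abelian and their
normalizers are not contained in `M`.
-/

set_option autoImplicit false
set_option linter.style.haveILetI false

open scoped commutatorElement

namespace CfsgLib.Uniqueness

open Cfsg CfsgLib CfsgLib.Coprime CfsgLib.Signalizer

universe u

variable {G : Type u} [Group G] [Finite G] {p : ℕ} [hp : Fact p.Prime]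

/-- A maximal subgroup containing the normalizer of a line that fixes part of `M_σ` is not a
conjugate of `M`, unless it is `M`. -/
theorem not_conj_of_fixed (hG : IsMinSimpleOddOrder G) {M L : Subgroup G} (hM : IsCoatom M)
    (hp2 : p ∈ tau2 M) {n : Subgroup G} (hn : Nat.card n = p) (hnM : n ≤ M) {q : ℕ} [Fact q.Prime]
    (hq : q ∈ sigma M) {Y : Subgroup G} (hY : IsPGroup q Y) (hY1 : Y ≠ ⊥) (hYM : Y ≤ M)
    (hnY : Y ≤ Subgroup.centralizer (n : Set G)) (hNn : Subgroup.normalizer (n : Set G) ≤ L)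
    (hne : L ≠ M) (g : G) : L.map (MulAut.conj g).toMonoidHom ≠ M := by
  intro h
  have hL : L = M.map (MulAut.conj g⁻¹).toMonoidHom := by
    rw [← h, map_conj_map_conj, inv_mul_cancel, map_conj_one]
  rw [hL] at hNn
  have hgM := mem_of_fixed_conj hG hM hp2 hn hnM hq hY hY1 hYM hnY
    ((hnY.trans (Subgroup.centralizer_le_normalizer _)).trans hNn) hNn
  exact hne (hL.trans (map_conj_eq_of_mem_normalizer (Subgroup.le_normalizer hgM)))

omit hp in
/-- A `p`-subgroup in `L_σ` centralises an invariant `σ(L)'`-subgroup of `L`. -/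
theorem le_centralizer_of_sigma (hG : IsMinSimpleOddOrder G) {L A Y : Subgroup G} (hL : IsCoatom L)
    (hA : IsPGroup p A) (hAL : A ≤ L) [Fact p.Prime] (hpσ : p ∈ sigma L) {q : ℕ} [hq : Fact q.Prime]
    (hY : IsPGroup q Y) (hYL : Y ≤ L) (hqσ : q ∉ sigma L)
    (hAY : A ≤ Subgroup.normalizer (Y : Set G)) : Y ≤ Subgroup.centralizer (A : Set G) := by
  refine (Subgroup.commutator_eq_bot_iff_le_centralizer).mp (le_bot_iff.mp ?_)
  have h1 : ⁅Y, A⁆ ≤ Y ⊓ sigmaCore L := le_inf (commutator_le_of_le_normalizer hAY)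
    (Subgroup.commutator_le.mpr fun y hy a ha => by
      have h2 := le_sigmaCore_of_isPGroup hG hL hA hAL hpσ ha
      rw [commutatorElement_def]
      exact mul_mem ((Subgroup.mem_normalizer_iff.mp (le_normalizer_sigmaCore L (hYL hy)) a).mp h2)
        (inv_mem h2))
  refine h1.trans (le_of_eq ?_)
  exact Constrained.disjoint_of_isPGroup_of_not_dvd hY (not_dvd_sigmaCore hq.out hqσ)

/-- A cyclic `q`-group on which `Z` acts non-trivially is fixed-point-free. -/
theorem inf_centralizer_of_cyclic {Y Z : Subgroup G} {q : ℕ} [hq : Fact q.Prime] (hY : IsPGroup q Y)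
    (hc : IsCyclic Y) (hZY : Z ≤ Subgroup.normalizer (Y : Set G))
    (hcop : (Nat.card Z).Coprime (Nat.card Y)) (hne : ¬ Y ≤ Subgroup.centralizer (Z : Set G)) :
    Y ⊓ Subgroup.centralizer (Z : Set G) = ⊥ ∧ Y ≤ ⁅Y, Z⁆ := by
  have hab : IsMulCommutative Y := by
    haveI := hc
    exact IsMulCommutative.of_comm fun a b => IsCyclic.commGroup.mul_comm a b
  have hbot := commutator_inf_centralizer_eq_bot hab hZY hcop
  have hsup := commutator_sup_centralizer_of_comm hab hZY hcop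
  have hYZ : ⁅Y, Z⁆ ≤ Y := commutator_le_of_le_normalizer hZY
  have hC : Y ⊓ Subgroup.centralizer (Z : Set G) = ⊥ := by
    by_contra hC
    have hK : ⁅Y, Z⁆ ≠ ⊥ := fun h => hne (Subgroup.commutator_eq_bot_iff_le_centralizer.mp h)
    have hex : ∀ W : Subgroup G, W ≤ Y → W ≠ ⊥ → ∃ x ∈ W, orderOf x = q := fun W hW hW1 => by
      obtain ⟨k, hk⟩ := IsPGroup.iff_card.mp (hY.to_le hW)
      obtain ⟨x, hx⟩ := exists_prime_orderOf_dvd_card' (G := W) q (by
        rw [hk]
        refine dvd_pow_self q fun h => hW1 (Subgroup.card_eq_one.mp ?_)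
        rw [hk, h, pow_zero])
      exact ⟨x, x.2, by rw [Subgroup.orderOf_coe, hx]⟩
    obtain ⟨x, hxK, hxo⟩ := hex _ hYZ hK
    obtain ⟨y, hyC, hyo⟩ := hex _ inf_le_left hC
    let Ω : Subgroup G :=
      { carrier := {z | z ∈ Y ∧ z ^ q = 1}
        one_mem' := ⟨one_mem _, one_pow q⟩
        mul_mem' := fun {a b} ha hb => ⟨mul_mem ha.1 hb.1, by
          rw [(show Commute a b from congrArg Subtype.val
            (hab.is_comm.comm (⟨a, ha.1⟩ : Y) ⟨b, hb.1⟩)).mul_pow, ha.2, hb.2, one_mul]⟩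
        inv_mem' := fun {a} ha => ⟨inv_mem ha.1, by rw [inv_pow, ha.2, inv_one]⟩ }
    have hΩc : IsCyclic Ω := by
      haveI := hc
      exact Subgroup.isCyclic_of_le (H := Ω) (H' := Y) fun z hz => hz.1
    have hΩ : Nat.card Ω ≤ q := card_le_of_isCyclic_exp hq.out.pos hΩc fun z hz => hz.2
    have hx : Subgroup.zpowers x = Ω := Subgroup.eq_of_le_of_card_ge
      (Subgroup.zpowers_le.mpr ⟨hYZ hxK, hxo ▸ pow_orderOf_eq_one x⟩)
      (by rw [Nat.card_zpowers, hxo]; exact hΩ)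
    have hyK : y ∈ ⁅Y, Z⁆ := Subgroup.zpowers_le.mpr hxK
      (hx.ge ⟨hyC.1, hyo ▸ pow_orderOf_eq_one y⟩)
    have h1 : y = 1 := Subgroup.mem_bot.mp (hbot.le ⟨hyK, hyC.2⟩)
    rw [h1, orderOf_one] at hyo
    exact hq.out.one_lt.ne hyo
  refine ⟨hC, ?_⟩
  rw [hC, sup_bot_eq] at hsup
  exact hsup.ge

omit hp in
theorem exists_coatom_ne (hG : IsMinSimpleOddOrder G) {M n : Subgroup G} (hn : n ≠ ⊥) (hnM : n ≤ M)
    (hM : IsCoatom M)
    (h : ¬ (Subgroup.normalizer (n : Set G) ≤ M ∧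
      ∀ L : Subgroup G, IsCoatom L → Subgroup.normalizer (n : Set G) ≤ L → L = M)) :
    ∃ L : Subgroup G, IsCoatom L ∧ Subgroup.normalizer (n : Set G) ≤ L ∧ L ≠ M := by
  by_contra h'
  refine h ⟨?_, fun L hL hNL => by_contra fun hne => h' ⟨L, hL, hNL, hne⟩⟩
  obtain ⟨L, hL, hNL⟩ := exists_coatom_ge
    (normalizer_ne_top hG hn (ne_top_of_le_coatom hM hnM))
  by_cases hLM : L = M
  · exact hLM ▸ hNL
  · exact absurd ⟨L, hL, hNL, hLM⟩ h'

omit [Finite G] in
theorem ne_bot_of_card {n : Subgroup G} (hn : Nat.card n = p) : n ≠ ⊥ := fun h => by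
  rw [h, Subgroup.card_bot] at hn
  exact hp.out.one_lt.ne hn

/-- Every non-central line of a normal plane of a non-abelian Sylow subgroup has its normalizer in
`M` alone. -/
theorem unique_of_line (hG : IsMinSimpleOddOrder G) {M P : Subgroup G} (hM : IsCoatom M)
    (hp2 : p ∈ tau2 M) (hPM : P ≤ M)
    {Z₀ : Subgroup G} (hZc : Nat.card Z₀ = p) (hZD : Z₀ ≤ ⁅P, P⁆)
    (hcen : ∀ z ∈ Z₀, ∀ y ∈ P, y * z = z * y)
    (hα : ¬ alphaCore M ≤ Subgroup.centralizer (Z₀ : Set G))
    {B : Subgroup G} (hB : IsPlane p B) (hBP : B ≤ P) (hPB : P ≤ Subgroup.normalizer (B : Set G))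
    (hZB : Z₀ ≤ B)
    (htr : ∀ m n : Subgroup G, m ≤ B → Nat.card m = p → m ≠ Z₀ → n ≤ B → Nat.card n = p → n ≠ Z₀ →
      ∃ g ∈ P, m.map (MulAut.conj g).toMonoidHom = n)
    {m : Subgroup G} (hm : m ≤ B) (hmc : Nat.card m = p) (hmne : m ≠ Z₀) :
    Subgroup.normalizer (m : Set G) ≤ M ∧
      ∀ L : Subgroup G, IsCoatom L → Subgroup.normalizer (m : Set G) ≤ L → L = M := by
  by_contra hno
  have hBM : B ≤ M := hBP.trans hPM
  obtain ⟨L, hL, hNL, hne⟩ := exists_coatom_ne hG (ne_bot_of_card hmc) (hm.trans hBM) hM hno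
  have hmax := hB.maximal hG hM hp2 hBM
  have hαM : alphaCore M ≤ M := Subgroup.map_subtype_le _
  have hpα : p ∉ alpha M := fun h => hp2.2.1 (mem_sigma_of_alpha hG hM h)
  have hMα := not_dvd_alphaCore hp.out hpα
  set K := alphaCore M ⊓ Subgroup.centralizer (m : Set G) with hK
  have hKC : ¬ K ≤ Subgroup.centralizer (Z₀ : Set G) := by
    intro hle
    refine hα (hB.generate (hBM.trans (le_normalizer_alphaCore M)) hMα fun n hn hnc => ?_)
    by_cases hnZ : n = Z₀
    · exact hnZ ▸ inf_le_right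
    obtain ⟨g, hg, hgmn⟩ := htr m n hm hmc hmne hn hnc hnZ
    rintro x ⟨hx1, hx2⟩
    have hy : g⁻¹ * x * g ∈ K := by
      refine ⟨(Subgroup.mem_normalizer_iff''.mp (le_normalizer_alphaCore M (hPM hg)) x).mp hx1,
        Subgroup.mem_centralizer_iff.mpr fun a ha => ?_⟩
      have hga : g * a * g⁻¹ ∈ n := hgmn ▸ ⟨a, ha, rfl⟩
      calc a * (g⁻¹ * x * g) = g⁻¹ * ((g * a * g⁻¹) * x) * g := by group
        _ = g⁻¹ * (x * (g * a * g⁻¹)) * g := by rw [Subgroup.mem_centralizer_iff.mp hx2 _ hga]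
        _ = g⁻¹ * x * g * a := by group
    refine Subgroup.mem_centralizer_iff.mpr fun z hz => ?_
    have h1 := Subgroup.mem_centralizer_iff.mp (hle hy) z hz
    have h2 : g * z * g⁻¹ = z := by rw [hcen z hz g hg, mul_inv_cancel_right]
    calc z * x = g * z * g⁻¹ * x := by rw [h2]
      _ = g * (z * (g⁻¹ * x * g)) * g⁻¹ := by group
      _ = g * ((g⁻¹ * x * g) * z) * g⁻¹ := by rw [h1]
      _ = x * (g * z * g⁻¹) := by group
      _ = x * z := by rw [h2]
  -- `K` has rank one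
  have hmM : m ≤ M := hm.trans hBM
  have hr1 : RankLE 1 K := by
    by_contra hr
    obtain ⟨M', -, huniq⟩ := unique_centralizer_of_alpha hG hM hmM (fun r hr' hd h => hpα (by
      rw [hmc] at hd
      rwa [← (Nat.prime_dvd_prime_iff_eq hr' hp.out).mp hd])) hr
    have hCN : M ⊓ Subgroup.centralizer (m : Set G) ≤ Subgroup.normalizer (m : Set G) :=
      inf_le_right.trans (Subgroup.centralizer_le_normalizer _)
    exact hne ((huniq L ⟨hL, hCN.trans hNL⟩).trans (huniq M ⟨hM, inf_le_left⟩).symm)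
  have hKM : K ≤ M := inf_le_left.trans hαM
  have hBK : B ≤ Subgroup.normalizer (K : Set G) :=
    le_normalizer_inf' (hBM.trans (le_normalizer_alphaCore M))
      (le_normalizer_centralizer (hB.le_normalizer_of_le hm))
  have hpK : ¬ p ∣ Nat.card K := fun h => hMα (h.trans (Subgroup.card_dvd_of_le inf_le_left))
  have hcop := coprime_of_isPGroup hB.isPGroup hpK
  haveI : Group.IsSolvable B := isSolvable_of_isPGroup hB.isPGroup
  obtain ⟨q, hq, Y₀, hY₀K, hY₀, hBY₀, hY₀Z⟩ : ∃ (q : ℕ) (_ : Fact q.Prime) (Y : Subgroup G),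
      Y ≤ K ∧ IsPGroup q Y ∧ B ≤ Subgroup.normalizer (Y : Set G) ∧
      ¬ Y ≤ Subgroup.centralizer (Z₀ : Set G) := by
    by_contra h
    exact hKC (le_of_forall_invariant_sylow hBK hcop (Or.inl inferInstance)
      fun r R hr hRK hR hBR => by_contra fun h1 => h ⟨r, ⟨hr⟩, R, hRK, hR, hBR, h1⟩)
  haveI := hq
  obtain ⟨SK, hBY, hY₀Y⟩ := le_invariant_sylow (p := q) hBK hcop (Or.inl inferInstance) Y₀ hY₀K hY₀
    hBY₀
  set Y := (SK : Subgroup K).map K.subtype with hYdef
  have hY : IsPGroup q Y := SK.isPGroup'.map _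
  have hYK : Y ≤ K := Subgroup.map_subtype_le _
  have hYf : ¬ q ∣ Y.relIndex K := by
    rw [Subgroup.relIndex, Subgroup.subgroupOf, hYdef,
      Subgroup.comap_map_eq_self_of_injective K.subtype_injective]
    exact SK.not_dvd_index
  have hYZ : ¬ Y ≤ Subgroup.centralizer (Z₀ : Set G) := fun h => hY₀Z (hY₀Y.trans h)
  have hY1 : Y ≠ ⊥ := fun h => hYZ (h ▸ bot_le)
  have hqY : q ∣ Nat.card Y := by
    obtain ⟨k, hk⟩ := IsPGroup.iff_card.mp hY
    rw [hk]
    exact dvd_pow_self q fun h0 => hY1 (Subgroup.card_eq_one.mp (by rw [hk, h0, pow_zero]))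
  have hqα : q ∈ alpha M := by
    by_contra h
    exact not_dvd_alphaCore hq.out h (hqY.trans (Subgroup.card_dvd_of_le (hYK.trans inf_le_left)))
  have hqσM : q ∈ sigma M := mem_sigma_of_alpha hG hM hqα
  have hqp : q ≠ p := fun h => hp2.2.1 (h ▸ hqσM)
  have hYc : IsCyclic Y := LocalP.isCyclic_of_pRankLE_one hY (ne_two_of_isPGroup hG hY hY1) (by
    by_contra h
    obtain ⟨E, hEY, hE, hEc⟩ := exists_elementary_of_not_pRankLE h
    exact not_rankLE_of_elementary hq.out (hEY.trans hYK) hE hEc hr1)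
  obtain ⟨hYZ0, hYeq⟩ := inf_centralizer_of_cyclic hY hYc (hZB.trans hBY)
    (coprime_of_isPGroup (IsPGroup.of_card (n := 1) (by rw [hZc, pow_one]))
      fun hd => hqp (eq_of_dvd_card_pGroup hY hp.out hd).symm) hYZ
  have hYB : Y ≤ ⁅Y, B⁆ := hYeq.trans (Subgroup.commutator_mono le_rfl hZB)
  have hYCB : Y ⊓ Subgroup.centralizer (B : Set G) = ⊥ :=
    le_bot_iff.mp ((inf_le_inf_left Y (Subgroup.centralizer_le hZB)).trans hYZ0.le)
  have hBm : B ≤ Subgroup.centralizer (m : Set G) :=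
    hB.le_centralizer.trans (Subgroup.centralizer_le hm)
  have hCmL : Subgroup.centralizer (m : Set G) ≤ L :=
    (Subgroup.centralizer_le_normalizer _).trans hNL
  have hBL : B ≤ L := hBm.trans hCmL
  have hYm : Y ≤ Subgroup.centralizer (m : Set G) := hYK.trans inf_le_right
  have hYL : Y ≤ L := hYm.trans hCmL
  have hnc := not_conj_of_fixed hG hM hp2 hmc hmM hqσM hY hY1 (hYK.trans hKM) hYm hNL hne
  have hqσ : q ∉ sigma L := alpha_sigma_disjoint hG hM hL hnc hqα
  by_cases hpσ : p ∈ sigma L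
  · exact hYZ ((le_centralizer_of_sigma hG hL hB.isPGroup hBL hpσ hY hYL hqσ hBY).trans
      (Subgroup.centralizer_le hZB))
  have hpL := hB.tau2_of_not_sigma hG hL hBL hpσ
  have hTH := hB.transitivityHypothesis hG hmax
  have hpY : ¬ p ∣ Nat.card Y := fun hd => hqp (eq_of_dvd_card_pGroup hY hp.out hd).symm
  have hYO : Y ≤ coreOf p L := inv_le_coreOf hTH hB.isPGroup hL.1 hBL hYL hpY hBY
  obtain ⟨SO, hBS, hYS⟩ := le_invariant_sylow (p := q) (hBL.trans (le_normalizer_coreOf L))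
    (coprime_of_isPGroup hB.isPGroup (coreOf_not_dvd L)) (Or.inl inferInstance) Y hYO hY hBY
  set S := (SO : Subgroup (coreOf p L)).map (coreOf p L).subtype with hSdef
  have hqC : ¬ q ∣ Nat.card (Subgroup.centralizer (B : Set G)) := by
    intro hd
    obtain ⟨x, hx⟩ := exists_prime_orderOf_dvd_card' (G := Subgroup.centralizer (B : Set G)) q hd
    have hxo : orderOf (x : G) = q := by rw [Subgroup.orderOf_coe, hx]
    have hXq : IsPGroup q (Subgroup.zpowers (x : G)) :=
      IsPGroup.of_card (n := 1) (by rw [Nat.card_zpowers, hxo, pow_one])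
    have hBX : B ≤ Subgroup.normalizer (Subgroup.zpowers (x : G) : Set G) := fun b hb =>
      Subgroup.centralizer_le_normalizer _
        ((Subgroup.le_centralizer_iff.mp (Subgroup.zpowers_le.mpr x.2)) hb)
    obtain ⟨Q, hQ, hxQ⟩ := exists_maxInv hq.out hXq hBX
    obtain ⟨R, hYR, hRσ, hR, hBR, hRi⟩ := exists_inv_sylow_sigma hG hM hB.isPGroup hBM hp2.2.1 hqσM
      hY (hYK.trans hKM) hBY
    obtain ⟨k, hk, hkeq⟩ := hB.conj_maxInv hG hmax hq.out hqp hd (mem_maxInv_of_full hR hRi hBR) hQ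
    have hRα : R ≤ alphaCore M := le_alphaCore hG hM (hRσ.trans (Subgroup.map_subtype_le _))
      fun r hr hd => eq_of_dvd_card_pGroup hR hr hd ▸ hqα
    have hRY : R ⊓ Subgroup.centralizer (m : Set G) = Y :=
      eq_of_full hYf (le_inf hYR hYm) (le_inf (inf_le_left.trans hRα) inf_le_right)
        (hR.to_le inf_le_left)
    have hkC := centCore_le_centralizer B B hk
    have h1 : k⁻¹ * (x : G) * k ∈ R :=
      mem_map_conj_iff.mp (hkeq.le (hxQ (Subgroup.mem_zpowers _)))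
    have h2 : k⁻¹ * (x : G) * k ∈ Subgroup.centralizer (B : Set G) :=
      mul_mem (mul_mem (inv_mem hkC) x.2) hkC
    have h3 : k⁻¹ * (x : G) * k = 1 := Subgroup.mem_bot.mp (hYCB.le
      ⟨hRY.le ⟨h1, Subgroup.centralizer_le hm h2⟩, h2⟩)
    have h4 : (x : G) = 1 := by
      rw [show (x : G) = k * (k⁻¹ * (x : G) * k) * k⁻¹ by group, h3, mul_one, mul_inv_cancel]
    rw [h4, orderOf_one] at hxo
    exact hq.out.one_lt.ne hxo
  have hS : IsPGroup q S := SO.isPGroup'.map _
  obtain ⟨j, -, -, hj⟩ := exists_line_of_core hG hL hpL hB hBL hqp hqσ hS (Subgroup.map_subtype_le _)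
    (by
      rw [Subgroup.relIndex, Subgroup.subgroupOf, hSdef,
        Subgroup.comap_map_eq_self_of_injective (coreOf p L).subtype_injective]
      exact SO.not_dvd_index) hBS (by
      by_contra h
      obtain ⟨k, hk⟩ := IsPGroup.iff_card.mp (hS.to_le (inf_le_left :
        S ⊓ Subgroup.centralizer (B : Set G) ≤ S))
      refine hqC (dvd_trans ?_ (Subgroup.card_dvd_of_le (inf_le_right :
        S ⊓ Subgroup.centralizer (B : Set G) ≤ Subgroup.centralizer (B : Set G))))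
      rw [hk]
      exact dvd_pow_self q fun h0 => h (Subgroup.card_eq_one.mp (by rw [hk, h0, pow_zero]))) hYS hY1
    hYB
  have hPL : P ≤ L := hPB.trans
    (normalizer_le_of_meets hG hL hpL hBL hm hmc hNL j fun n hn hnc _ hnj => hj n hn hnc hnj)
  -- `[Y, Z₀] ≤ L_α`
  set N := piCore (alpha L) ↥L
  haveI := solvable_of_ne_top hG hL.1
  have hnil := isNilpotent_commutator_quotient hG hL.1
  have hZL : Z₀ ≤ ⁅L, L⁆ := hZD.trans (Subgroup.commutator_mono hPL hPL)
  have hYL' : Y ≤ ⁅L, L⁆ := hYB.trans (Subgroup.commutator_mono hYL hBL)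
  have himg : ∀ x (hx : x ∈ L), x ∈ ⁅L, L⁆ →
      QuotientGroup.mk' N ⟨x, hx⟩ ∈ commutator (↥L ⧸ N) := by
    intro x hx hx'
    rw [← Subgroup.map_subtype_commutator] at hx'
    obtain ⟨y, hy, hye⟩ := hx'
    have h3 := Subgroup.mem_map_of_mem (QuotientGroup.mk' N) hy
    rw [commutator_def, Subgroup.map_commutator,
      Subgroup.map_top_of_surjective _ (QuotientGroup.mk'_surjective N)] at h3
    rwa [show (⟨x, hx⟩ : L) = y from Subtype.ext hye.symm]
  have hle : ⁅Y, Z₀⁆ ≤ alphaCore L := by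
    refine Subgroup.commutator_le.mpr fun y hy z hz => ?_
    have hzL : z ∈ L := hPL (hBP (hZB hz))
    have hco : (orderOf (QuotientGroup.mk' N ⟨y, hYL hy⟩)).Coprime
        (orderOf (QuotientGroup.mk' N ⟨z, hzL⟩)) := by
      refine Nat.Coprime.coprime_dvd_left ((orderOf_map_dvd _ _).trans ?_)
        (Nat.Coprime.coprime_dvd_right ((orderOf_map_dvd _ _).trans ?_)
          ((coprime_of_isPGroup (IsPGroup.of_card (n := 1) (by rw [hZc, pow_one]) : IsPGroup p Z₀)
            hpY).symm))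
      · rw [← Subgroup.orderOf_coe]; exact Y.orderOf_dvd_natCard hy
      · rw [← Subgroup.orderOf_coe]; exact Z₀.orderOf_dvd_natCard hz
    have hcomm := CN.commute_of_coprime_orders hnil (himg y (hYL hy) (hYL' hy))
      (himg z hzL (hZL hz)) hco
    have h5 : ⁅(⟨y, hYL hy⟩ : L), ⟨z, hzL⟩⁆ ∈ N := by
      rw [← QuotientGroup.eq_one_iff, ← QuotientGroup.mk'_apply, map_commutatorElement]
      exact commutatorElement_eq_one_iff_mul_comm.mpr hcomm
    exact ⟨_, h5, rfl⟩
  refine hY1 (le_bot_iff.mp ((le_inf le_rfl (hYeq.trans hle)).trans (le_of_eq ?_)))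
  exact Constrained.disjoint_of_isPGroup_of_not_dvd hY (not_dvd_alphaCore hq.out fun h =>
    hqσ (mem_sigma_of_alpha hG hL h))

/-- **BG 12.5 (b), first part.** -/
theorem sylow_comm_of_tau2 (hG : IsMinSimpleOddOrder G) {M P : Subgroup G} (hM : IsCoatom M)
    (hp2 : p ∈ tau2 M) (hP : IsPGroup p P) (hPM : P ≤ M) (hPf : ¬ p ∣ P.relIndex M) :
    IsMulCommutative P := by
  by_contra hna
  obtain ⟨Z₀, hZc, hZD, hcen, hmemZ, hZB, htr, hα⟩ := exists_central_line hG hM hp2 hP hPM hPf hna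
  obtain ⟨A, hA, hAP⟩ := exists_plane_in_full hp2.2.2.1 hp2.2.2.2 hP hPM hPf
  have hP1 : P ≠ ⊥ := fun h => hA.ne_bot (le_bot_iff.mp (h ▸ hAP))
  have hnc : ¬ IsCyclic P := fun h => hna (by
    haveI := h
    exact IsMulCommutative.of_comm fun a b => IsCyclic.commGroup.mul_comm a b)
  obtain ⟨E, hEn, hE, hEc⟩ :=
    PGroup.exists_normal_elementary_sq (ne_two_of_isPGroup hG hP hP1) hP hnc
  have hB : IsPlane p (E.map P.subtype) := ⟨⟨comm_map _ hE.1, by
      rintro _ ⟨e, he, rfl⟩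
      rw [← map_pow, hE.2 e he, map_one]⟩,
    by rw [Subgroup.card_map_of_injective P.subtype_injective, hEc]⟩
  set B := E.map P.subtype
  have hBP : B ≤ P := Subgroup.map_subtype_le _
  have hPB : P ≤ Subgroup.normalizer (B : Set G) := by
    have h := Subgroup.le_normalizer_map (H := E) P.subtype
    rwa [Subgroup.normalizer_eq_top (H := E), ← MonoidHom.range_eq_map,
      Subgroup.range_subtype] at h
  obtain ⟨m, hm, hmc, hmne⟩ := hB.exists_line_ne hZc
  have hpM : p ∣ Nat.card M := by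
    have h1 : p ∣ Nat.card A := hA.card ▸ dvd_pow_self p two_ne_zero
    exact h1.trans (Subgroup.card_dvd_of_le (hAP.trans hPM))
  refine hp2.2.1 (sigma_of_normalizer_le hpM hP hPM hPf fun v hv => ?_)
  obtain ⟨hNm, -⟩ := unique_of_line hG hM hp2 hPM hZc hZD hcen hα hB hBP hPB (hZB B hB hBP)
    (htr B hB hBP) hm hmc hmne
  set f := (MulAut.conj v).toMonoidHom
  have hfP : P.map f = P := map_conj_eq_of_mem_normalizer hv
  have hB' : IsPlane p (B.map f) := hB.map_conj v
  have hB'P : B.map f ≤ P := (Subgroup.map_mono hBP).trans hfP.le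
  have hPB' : P ≤ Subgroup.normalizer ((B.map f : Subgroup G) : Set G) := by
    rw [← map_normalizer_conj]
    exact hfP.ge.trans (Subgroup.map_mono hPB)
  have hne' : m.map f ≠ Z₀ := fun h => by
    obtain ⟨x, hx, hx1⟩ := exists_ne_one_of_card hmc
    refine hmne (eq_of_lines hmc hZc hx (hmemZ x (hBP (hm hx)) (hB.elem.2 x (hm hx)) fun y hy => ?_) hx1)
    have hyv : v * y * v⁻¹ ∈ P := (Subgroup.mem_normalizer_iff.mp hv y).mp hy
    have h1 := hcen (v * x * v⁻¹) (h ▸ ⟨x, hx, rfl⟩) _ hyv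
    calc y * x = v⁻¹ * ((v * y * v⁻¹) * (v * x * v⁻¹)) * v := by group
      _ = v⁻¹ * ((v * x * v⁻¹) * (v * y * v⁻¹)) * v := by rw [h1]
      _ = x * y := by group
  obtain ⟨-, huniq⟩ := unique_of_line hG hM hp2 hPM hZc hZD hcen hα hB' hB'P hPB'
    (hZB _ hB' hB'P) (htr _ hB' hB'P) (Subgroup.map_mono hm)
    (by rw [Subgroup.card_map_of_injective (MulAut.conj v).injective, hmc]) hne'
  have hEq := huniq (M.map f) (((MulEquiv.mapSubgroup (MulAut.conj v)).isCoatom_iff M).mpr hM)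
    (by rw [← map_normalizer_conj]; exact Subgroup.map_mono hNm)
  have hvN : v ∈ Subgroup.normalizer (M : Set G) := Subgroup.mem_normalizer_iff_map_conj_eq.mpr hEq
  rcases hM.le_iff.mp (Subgroup.le_normalizer : M ≤ Subgroup.normalizer (M : Set G)) with h | h
  · exact absurd h (normalizer_ne_top hG (coatom_ne_bot hG hM) hM.1)
  · exact h ▸ hvN

end CfsgLib.Uniqueness
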